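import Cfsg.Agent.H889.PDL.Asm
import Cfsg.Agent.H100.AltSyl.PslPts

/-!
# S4246: the row `PSL_n(q)`, `n ≥ 3` (helper889)
-/

set_option autoImplicit false
set_option linter.unusedSectionVars false

namespace Cfsg.Agent.H889.PDL

open Matrix Module Subgroup Cfsg.Agent.H160.PD
open Cfsg.Agent.ClassicalGeometry.AutPSL.Root
open Cfsg.Agent.ClassicalGeometry.AutPSL.Auto
open Cfsg.Agent.H999.RowPSL (Prim)

variable {F : Type*} [Field F] [Fintype F]

/-- **`L_6(2)`** -/
theorem one_six (D : Dat 6 F 2 1) : One (PS 6 F) 2 31 0 0 0 := by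
  have hR := rp_six
  have hrz := D.ndz (k := 5) (by norm_num) hR
  have hP : Prim (Nat.card F) 31 (6 - 1) := D.prim hR
  have hfine : Fine 6 F 31 5 := fine_pred (by norm_num) hrz hP
  have hq : Nat.card F = 2 := by rw [D.hF, pow_one]
  have hvp := D.v_char
  have hvo := D.v_out_char
  have hle := v_two_mul_le D.pp D.f1
  refine ⟨D.pp, D.good (k := 5) (by norm_num) (by norm_num) hR, ?_, ?_, ?_, fun h => absurd rfl h,
    fun h => absurd rfl h, fun h => absurd rfl h, fun h => absurd rfl h⟩
  · intro x hx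
    exact (hfine.v_cent_char (by norm_num) D.pp D.pF hx).le
  · intro b hb hb2 _ x hx hbx
    obtain ⟨A, rfl, g, -, hg, hc⟩ := lin_of_fix (by norm_num) D.pp D.hF hR hrz hb hb2 hx hbx
    -- the determinant is `1`
    have hdet : (A : Matrix (Fin 6) (Fin 6) F).det = 1 := by
      have h1 : ∀ c : F, c ≠ 0 → c = 1 := by
        intro c hc
        have h2 := FiniteField.pow_card_sub_one_eq_one c hc
        rwa [← Nat.card_eq_fintype_card, hq, show 2 - 1 = 1 from rfl, pow_one] at h2
      exact h1 _ ((Matrix.isUnit_iff_isUnit_det _).1 A.isUnit).ne_zero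
    obtain ⟨a, ha⟩ : ∃ a : Matrix.SpecialLinearGroup (Fin 6) F, a.1 = (A : Matrix (Fin 6) (Fin 6) F) :=
      ⟨⟨_, hdet⟩, rfl⟩
    have hac : a ∈ centralizer {g} := by
      rw [mem_centralizer_singleton_iff]
      apply Subtype.ext
      show a.1 * g.1 = g.1 * a.1
      rw [ha, hc]
    have h1 := (sit_range (by norm_num) hg hP).card_cent_dvd
    have h31 : Nat.card F ^ (6 - 1) - 1 = 31 := by rw [hq]; norm_num
    have hao : orderOf a = 31 := by
      have h2 : orderOf a ∣ 31 := by
        rw [← h31]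
        refine dvd_trans ?_ h1
        have h3 := orderOf_dvd_natCard (⟨a, hac⟩ : (centralizer {g} : Subgroup (Matrix.SpecialLinearGroup (Fin 6) F)))
        rwa [Subgroup.orderOf_mk] at h3
      rcases (Nat.dvd_prime (by norm_num)).1 h2 with h3 | h3
      · exfalso
        rw [orderOf_eq_one_iff] at h3
        rw [h3] at ha
        exact not_scalar hb (c := 1) (by rw [← ha, map_one]; rfl)
      · exact h3
    have h2 := (sit_range (by norm_num) hao hP).card_cent_dvd
    refine (v_fx_lift_le (cj A) 2).trans ?_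
    have h3 : Fx (cj A) ≤ centralizer {a} := by
      intro y hy
      rw [mem_centralizer_singleton_iff]
      apply Subtype.ext
      show y.1 * a.1 = a.1 * y.1
      rw [ha, mem_fx_cj hy]
    refine (v_mono h3 2).trans ?_
    rw [h31] at h2
    have h4 : ¬ 2 ∣ Nat.card (centralizer {a} : Subgroup (Matrix.SpecialLinearGroup (Fin 6) F)) := by
      intro h
      have := h.trans h2
      revert this; decide
    exact (v_eq_zero h4).le
  · intro b hb hb2 hbp
    have h1 := v_fx_all (by norm_num) D.pp D.f1 D.hF b hb hb2 hbp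
    rw [hvo, hvp, max_self, add_zero]
    norm_num at h1 hle ⊢
    omega

/-- **The row `PSL_n(q)`, `n ≥ 3`.** -/
theorem row_psln {n : ℕ} (hn : 3 ≤ n) (F : Type*) [Field F] [Fintype F]
    [IsSimpleGroup (Matrix.ProjectiveSpecialLinearGroup (Fin n) F)] :
    Row (Matrix.ProjectiveSpecialLinearGroup (Fin n) F) := by
  have hnt : Nontrivial (Fin n) := Fin.nontrivial_iff_two_le.2 (by omega)
  have hZ : center (PS n F) = ⊥ :=
    center_eq_bot (S := PS n F) fun h => H100.AltSyl.psl_not_comm (ι := Fin n) (F := F) fun x y => h.is_comm.comm x y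
  obtain ⟨p, hchar⟩ := CharP.exists F
  have hpp : p.Prime := CharP.char_is_prime F p
  have hpf : Fact p.Prime := ⟨hpp⟩
  obtain ⟨f, -, hf⟩ := FiniteField.card F p
  have D : Dat n F p f := ⟨hn, hpp, f.pos, by rw [Nat.card_eq_fintype_card, hf], hZ⟩
  by_cases hnp : n.Prime
  · obtain ⟨r, hR⟩ := exists_rp hpp D.f1 hn (fun h => by
      rw [h.2.2] at hnp
      revert hnp; decide)
    exact (D.one_prime hnp hR).row hZ
  · have hn4 : 4 ≤ n := by
      rcases hn.eq_or_lt with h | h
      · exfalso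
        rw [← h] at hnp
        exact hnp (by norm_num)
      · exact h
    by_cases h6 : p = 2 ∧ (f : ℕ) = 1 ∧ n = 6
    · obtain ⟨h1, h2, h3⟩ := h6
      subst h3
      subst h1
      rw [h2] at D
      exact (one_six D).row hZ
    · obtain ⟨r₀, hR₀⟩ := exists_rp hpp D.f1 hn h6
      obtain ⟨r₁, hR₁⟩ := exists_rp' hpp D.f1 hn4 hnp
      exact (D.two hn4 hR₀ hR₁).row hZ

/-- **The row `PSL_n(q)`, `n ≥ 3`**, up to isomorphism. -/
theorem row_psl_three (K : Type*) [Group K] [IsSimpleGroup K] {n : ℕ} (hn : 3 ≤ n) (F : Type*) [Field F]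
    [Fintype F] (e : K ≃* Matrix.ProjectiveSpecialLinearGroup (Fin n) F) : Row K := by
  have : IsSimpleGroup (Matrix.ProjectiveSpecialLinearGroup (Fin n) F) := e.symm.isSimpleGroup
  exact (row_psln hn F).congr e

end Cfsg.Agent.H889.PDL
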