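import Cfsg.Agent.H889.PDL.Cmn

/-!
# S4246, row `PSL_n(q)` (helper889): the two criteria
-/

set_option autoImplicit false
set_option linter.unusedSectionVars false

namespace Cfsg.Agent.H889.PDL

open Matrix Module Subgroup Cfsg.Agent.H160.PD
open Cfsg.Agent.ClassicalGeometry.AutPSL.Root
open Cfsg.Agent.ClassicalGeometry.AutPSL.Auto
open Cfsg.Agent.ClassicalGeometry.AutPSL.Main
open Cfsg.Agent.H999.RowPSL (ker_pr Prim irred scalar_of_eig eig_of_fixed cj_eq_iff)

variable {F : Type*} [Field F] [Fintype F] {n p f : ℕ}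

namespace Dat

theorem irr {r : ℕ} (hP : Prim (Nat.card F) r n) {g : Matrix.SpecialLinearGroup (Fin n) F} (hg : orderOf g = r)
    (W : Submodule F (Fin n → F)) (hW : ∀ w ∈ W, g.1 *ᵥ w ∈ W) : W = ⊥ ∨ W = ⊤ := by
  refine irred hP (x := g.1) ?_ ?_ W hW
  · have h3 : g ^ r = 1 := orderOf_dvd_iff_pow_eq_one.1 (dvd_of_eq hg)
    have h4 := congrArg Subtype.val h3
    rwa [Matrix.SpecialLinearGroup.coe_pow] at h4
  · intro h3
    have h4 : g = 1 := Subtype.ext h3
    rw [h4, orderOf_one] at hg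
    exact hP.pr.one_lt.ne hg

/-- `n` prime: the fixed points of the automorphisms fixing an element of order `r` -/
theorem v_fx_prime (D : Dat n F p f) (hn : n.Prime) {r : ℕ} (hR : RP p f n n r) (t : ℕ)
    (b : MulAut (PS n F)) (hb : (orderOf b).Prime) (hb2 : orderOf b ≠ 2) (x : PS n F) (hx : orderOf x = r)
    (hbx : b x = x) : v t (Fx b) ≤ (Nat.card F ^ n - 1).factorization t := by
  have h3 := D.n3
  have hrz := D.ndz (by omega) hR
  obtain ⟨A, rfl, g, -, hg, hc⟩ := lin_of_fix (by omega) D.pp D.hF hR hrz hb hb2 hx hbx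
  refine (v_fx_lift_le (cj A) t).trans ?_
  have h1 := card_fx_dvd_prime hn hb (irr (D.prim hR) hg) hc
  have hq := Nat.one_lt_pow (n := n) (by omega) (Finite.one_lt_card (α := F))
  exact (Nat.factorization_le_iff_dvd Nat.card_pos.ne' (by omega)).2 h1 t

/-- **`n` an odd prime** -/
theorem one_prime (D : Dat n F p f) (hn : n.Prime) {r : ℕ} (hR : RP p f n n r) :
    One (PS n F) p r 0 0 ((n - 1) / 2) := by
  have h3 := D.n3
  have hn0 : n ≠ 0 := by omega
  have hrz := D.ndz (by omega) hR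
  have hfine : Fine n F r n := fine_top hrz (D.prim hR)
  have hf1 := D.f1
  have hvp := D.v_char
  have hvo := D.v_out_char
  have hle := v_two_mul_le D.pp D.f1
  have hchar0 : (Nat.card F ^ n - 1).factorization p = 0 :=
    Nat.factorization_eq_zero_of_not_dvd (not_dvd_pow_sub D.pp D.pF Nat.card_pos hn0)
  have hfn : f * 2 ≤ f * (n - 1) := Nat.mul_le_mul_left _ (by omega)
  set T := (n - 1) * (n - 2) / 2 with hT
  rw [mul_add] at hvp
  have hz2 : (zz n F).factorization 2 = 0 := by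
    apply Nat.factorization_eq_zero_of_not_dvd
    apply not_dvd_zz' Nat.prime_two
    intro h
    have := (Nat.prime_dvd_prime_iff_eq Nat.prime_two hn).1 h
    omega
  -- the prime `2`
  have htwo : p ≠ 2 → (Nat.card F ^ n - 1).factorization 2 + (out (PS n F)).factorization 2 < v 2 (PS n F) := by
    intro hp2
    have h1 := D.sum_le 2 {2, n} (by
      intro j hj
      rw [Finset.mem_insert, Finset.mem_singleton] at hj
      rw [Finset.mem_Icc]
      omega)
    rw [Finset.sum_pair (by omega), hz2, add_zero] at h1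
    have h4 := v_two D.pp.two_le (f := f) (by
      intro h
      exact hp2 ((Nat.prime_dvd_prime_iff_eq Nat.prime_two D.pp).1 h).symm) (by omega)
    rw [← D.hF] at h4
    rw [D.v_out, hz2, add_zero]
    omega
  refine ⟨D.pp, D.good (by omega) le_rfl hR, ?_, ?_, ?_, ?_, ?_, ?_, ?_⟩
  · intro x hx
    exact (hfine.v_cent_char hn0 D.pp D.pF hx).le
  · intro b hb hb2 hbp x hx hbx
    rw [← hchar0]
    exact D.v_fx_prime hn hR p b hb hb2 x hx hbx
  · intro b hb hb2 hbp
    have h1 := v_fx_all h3 D.pp D.f1 D.hF b hb hb2 hbp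
    rw [← hT] at h1
    rw [hvo, hvp, max_self, add_zero]
    omega
  · intro hp2 H hH hrH
    have h1 := odd_bound_of_uniq D.pp hR.pr (r_ne_p hR) hfine.uniq (fun X hX x hx hxo =>
      D.noNorm (D.prim hR) hrz X hX x hx hxo) (fun x hx => hfine.v_norm_char hn0 D.pp hp2 D.pF hx) H hH hrH
    omega
  · intro hp2 s hs
    have h1 := D.inv hp2 s hs
    rw [← hT] at h1
    have h2 := v_two_mul_odd D.pp hp2 D.f1
    rw [hvo, hvp, max_eq_left (Nat.zero_le _)]
    have h4 : (n - 1) / 2 * 2 ≤ n - 1 := Nat.div_mul_le_self _ _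
    have h5 : f + (n - 1) ≤ f * (n - 1) + 1 := by
      obtain ⟨a, rfl⟩ : ∃ a, f = a + 1 := ⟨f - 1, by omega⟩
      obtain ⟨m, hm⟩ : ∃ m, n - 1 = m + 1 := ⟨n - 2, by omega⟩
      rw [hm]
      nlinarith [Nat.zero_le (a * m)]
    omega
  · intro hp2 x hx
    have h1 := hfine.v_cent hn0 hx 2
    have h2 := htwo hp2
    omega
  · intro hp2 b hb hb2 x hx hbx
    have h1 := D.v_fx_prime hn hR 2 b hb hb2 x hx hbx
    have h2 := htwo hp2
    omega

/-- `Inc` -/
theorem inc (D : Dat n F p f) {r₀ r₁ : ℕ} (hR₀ : RP p f n n r₀) (hR₁ : RP p f n (n - 1) r₁) :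
    Inc (PS n F) r₀ r₁ := by
  have h3 := D.n3
  intro b hb hb2 x hx hbx y hy hby
  have hrz := D.ndz (by omega) hR₀
  have hrz' := D.ndz (by omega) hR₁
  obtain ⟨A, rfl, g, -, hg, hc⟩ := lin_of_fix (by omega) D.pp D.hF hR₀ hrz hb hb2 hx hbx
  obtain ⟨g', -, hg', hfix⟩ := exists_cent hR₁.pr hrz' hy
  have h1 := cj_eq_iff (hfix _ hby)
  have h2 : g' ^ r₁ = 1 := orderOf_dvd_iff_pow_eq_one.1 (dvd_of_eq hg')
  obtain ⟨v, μ, hv, hμ⟩ := eig_of_fixed h3 (D.prim hR₁) (z := g'.1) (by
    have h4 := congrArg Subtype.val h2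
    rwa [Matrix.SpecialLinearGroup.coe_pow] at h4) (by
    intro h3
    have h4 : g' = 1 := Subtype.ext h3
    rw [h4, orderOf_one] at hg'
    exact hR₁.pr.one_lt.ne hg') h1
  exact not_scalar hb (scalar_of_eig hc (irr (D.prim hR₀) hg) hv hμ).symm

/-- **`n ≥ 4`, two primes** -/
theorem two (D : Dat n F p f) (hn4 : 4 ≤ n) {r₀ r₁ : ℕ} (hR₀ : RP p f n n r₀) (hR₁ : RP p f n (n - 1) r₁) :
    Two (PS n F) p r₀ r₁ 0 0 0 ((n - 1) / 2) (f * (n - 1) + (n - 2) / 2) := by
  have hn0 : n ≠ 0 := by omega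
  have hn1 : n - 1 ≠ 0 := by omega
  have hrz₀ := D.ndz (by omega) hR₀
  have hrz₁ := D.ndz (by omega) hR₁
  have hf₀ : Fine n F r₀ n := fine_top hrz₀ (D.prim hR₀)
  have hf₁ : Fine n F r₁ (n - 1) := fine_pred (by omega) hrz₁ (D.prim hR₁)
  have hf1 := D.f1
  have hvp := D.v_char
  have hvo := D.v_out_char
  have hle := v_two_mul_le D.pp D.f1
  have hfn : f * 3 ≤ f * (n - 1) := Nat.mul_le_mul_left _ (by omega)
  have hT2 := tri_two n (by omega)
  have hT3 : n - 1 ≤ (n - 1) * (n - 2) / 2 := by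
    rw [Nat.le_div_iff_mul_le (by norm_num)]
    exact Nat.mul_le_mul_left _ (by omega)
  set T := (n - 1) * (n - 2) / 2 with hT
  have hfT : f * (n - 1) ≤ f * T := Nat.mul_le_mul_left _ hT3
  rw [mul_add] at hvp
  have hr01 : r₀ ≠ r₁ := by
    rintro rfl
    have h1 := D.ord hR₁ n (D.prim hR₀).dvd
    have h2 : n - 1 ∣ n - (n - 1) := Nat.dvd_sub h1 dvd_rfl
    have h3 := Nat.le_of_dvd (by omega) h2
    omega
  have key : ∀ b : MulAut (PS n F), (orderOf b).Prime → orderOf b ≠ 2 → orderOf b ≠ p →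
      v p (Fx b) + max 0 0 + (out (PS n F)).factorization p < v p (PS n F) := by
    intro b hb hb2 hbp
    have h1 := v_fx_all (by omega) D.pp D.f1 D.hF b hb hb2 hbp
    rw [← hT] at h1
    rw [hvo, hvp, max_self, add_zero]
    omega
  refine ⟨D.pp, D.good (by omega) le_rfl hR₀, D.good (by omega) (by omega) hR₁, ?_, ?_, ?_, D.inc hR₀ hR₁, ?_, ?_, ?_,
    ?_, ?_, ?_, ?_, ?_, ?_⟩
  · intro x hx
    exact (hf₀.v_cent_char hn0 D.pp D.pF hx).le
  · intro x hx
    exact (hf₁.v_cent_char hn1 D.pp D.pF hx).le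
  · refine noOdd_of_uniq hR₀.pr hR₁.pr hr01 hf₀.uniq hf₁.uniq (fun x hx => ?_) (fun x hx => ?_)
    · refine hf₀.not_dvd_norm hR₁.pr hR₁.gt (fun h => ?_) hx
      have h1 := D.ord hR₁ n h
      have h2 : n - 1 ∣ n - (n - 1) := Nat.dvd_sub h1 dvd_rfl
      have h3 := Nat.le_of_dvd (by omega) h2
      omega
    · refine hf₁.not_dvd_norm hR₀.pr (by have := hR₀.gt; omega) (fun h => ?_) hx
      have h1 := Nat.le_of_dvd (by omega) (D.ord hR₀ (n - 1) h)
      omega
  · intro b hb hb2 hbp x _ _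
    exact key b hb hb2 hbp
  · intro b hb hb2 hbp x _ _
    exact key b hb hb2 hbp
  · rw [hvo, hvp]
    omega
  · -- the other primes
    intro t ht ht2 htp htS htr0 htr1
    by_cases hj : ∃ j, 1 ≤ j ∧ j ≤ n - 2 ∧ t ∣ Nat.card F ^ j - 1
    · right
      intro x y hx hy
      obtain ⟨j, hj1, hj2, hj⟩ : ∃ j, 2 ≤ j ∧ j ≤ n - 2 ∧ t ∣ Nat.card F ^ j - 1 := by
        obtain ⟨j, hj1, hj2, hj⟩ := hj
        rcases hj1.eq_or_lt with h | h
        · subst h
          refine ⟨2, le_rfl, by omega, ?_⟩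
          have h1 : Nat.card F ^ 2 - 1 = (Nat.card F + 1) * (Nat.card F - 1) := by
            have := Nat.sq_sub_sq (Nat.card F) 1
            rwa [one_pow] at this
          rw [pow_one] at hj
          rw [h1]
          exact hj.mul_left _
        · exact ⟨j, h, hj2, hj⟩
      have h1 := hf₀.v_cent hn0 hx t
      have h2 := hf₁.v_cent hn1 hy t
      have h3 := D.sum_le t {j, n - 1, n} (by
        intro i hi
        rw [Finset.mem_insert, Finset.mem_insert, Finset.mem_singleton] at hi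
        rw [Finset.mem_Icc]
        omega)
      rw [Finset.sum_insert (by
        rw [Finset.mem_insert, Finset.mem_singleton]
        omega), Finset.sum_pair (by omega)] at h3
      have h4 : f.factorization t < (Nat.card F ^ j - 1).factorization t := by
        rw [D.hF] at hj ⊢
        exact v_lt' ht D.pp.two_le (by omega) (by omega) hj
      have h5 : (2 * f).factorization t = f.factorization t := by
        rw [Nat.factorization_mul (by norm_num) (by omega), Finsupp.add_apply,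
          Nat.factorization_eq_zero_of_not_dvd (n := 2), zero_add]
        intro h
        exact ht2 ((Nat.prime_dvd_prime_iff_eq ht Nat.prime_two).1 h)
      rw [D.v_out, h5]
      omega
    · left
      push Not at hj
      -- `t` is primitive
      have htq : ¬ t ∣ Nat.card F := by
        rw [D.hF]
        intro h
        exact htp ((Nat.prime_dvd_prime_iff_eq ht D.pp).1 (ht.dvd_of_dvd_pow h))
      have htSL : t ∣ Nat.card (Matrix.SpecialLinearGroup (Fin n) F) := by
        rw [card_S_mul]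
        exact htS.mul_right _
      have hn1' : t ∣ Nat.card F ^ (n - 1) - 1 ∨ t ∣ Nat.card F ^ n - 1 := by
        rw [H953.card_SL n (by omega), ← Nat.card_eq_fintype_card] at htSL
        rcases ht.dvd_mul.1 htSL with h | h
        · exact absurd (ht.dvd_of_dvd_pow h) htq
        · obtain ⟨i, hi, hd⟩ := (Nat.Prime.prime ht).exists_mem_finset_dvd h
          rw [Finset.mem_Icc] at hi
          rcases Nat.lt_or_ge (n - 2) i with h1 | h1
          · rcases (show i = n - 1 ∨ i = n by omega) with rfl | rfl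
            · exact Or.inl hd
            · exact Or.inr hd
          · exact absurd hd (hj i (by omega) h1)
      obtain ⟨m, hm, hP⟩ : ∃ m, (m = n - 1 ∨ m = n) ∧ Prim (Nat.card F) t m := by
        by_cases h : t ∣ Nat.card F ^ (n - 1) - 1
        · exact ⟨n - 1, Or.inl rfl, ht, h, fun d hd0 hd1 => hj d hd0 (by omega)⟩
        · refine ⟨n, Or.inr rfl, ht, hn1'.resolve_left h, fun d hd0 hd1 hd => ?_⟩
          rcases Nat.lt_or_ge (n - 2) d with h1 | h1
          · have : d = n - 1 := by omega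
            exact h (this ▸ hd)
          · exact hj d hd0 h1 hd
      have hm0 : m ≠ 0 := by omega
      have htz : ¬ t ∣ zz n F := by
        apply not_dvd_zz (by omega) ht
        have := hP.ndvd 1 one_pos (by omega)
        rwa [pow_one] at this
      have hfine : Fine n F t m := by
        rcases hm with rfl | rfl
        · exact fine_pred (by omega) htz hP
        · exact fine_top htz hP
      refine ⟨?_, fun y hy => (hfine.v_cent_char hm0 D.pp D.pF hy).le⟩
      have h3 := D.sum_le t {m} (by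
        intro i hi
        rw [Finset.mem_singleton] at hi
        rw [Finset.mem_Icc]
        omega)
      rw [Finset.sum_singleton] at h3
      have h4 : f.factorization t < (Nat.card F ^ m - 1).factorization t := by
        have h6 := hP.dvd
        rw [D.hF] at h6 ⊢
        exact v_lt' ht D.pp.two_le (by omega) hm0 h6
      have h5 : (2 * f).factorization t = f.factorization t := by
        rw [Nat.factorization_mul (by norm_num) (by omega), Finsupp.add_apply,
          Nat.factorization_eq_zero_of_not_dvd (n := 2), zero_add]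
        intro h
        exact ht2 ((Nat.prime_dvd_prime_iff_eq ht Nat.prime_two).1 h)
      have h6 : (zz n F).factorization t = 0 := Nat.factorization_eq_zero_of_not_dvd htz
      rw [D.v_out, h5]
      omega
  · intro hp2 H hH hrH
    have h1 := odd_bound_of_uniq D.pp hR₀.pr (r_ne_p hR₀) hf₀.uniq (fun X hX x hx hxo =>
      D.noNorm (D.prim hR₀) hrz₀ X hX x hx hxo) (fun x hx => hf₀.v_norm_char hn0 D.pp hp2 D.pF hx) H hH hrH
    omega
  · intro hp2 H hH hrH
    have h1 := odd_bound_of_uniq D.pp hR₁.pr (r_ne_p hR₁) hf₁.uniq (fun X hX x hx hxo =>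
      v_pgroup_le (by omega) D.pp D.f1 D.hF (D.prim hR₁) (D.ord hR₁) hrz₁ X hX x hx hxo)
      (fun x hx => hf₁.v_norm_char hn1 D.pp hp2 D.pF hx) H hH hrH
    omega
  · intro hp2
    have h2 := v_two_mul_odd D.pp hp2 D.f1
    rw [hvo, hvp]
    have h4 : (n - 1) / 2 * 2 ≤ n - 1 := Nat.div_mul_le_self _ _
    have h5 : f + (n - 1) ≤ f * (n - 1) + 1 := by
      obtain ⟨a, rfl⟩ : ∃ a, f = a + 1 := ⟨f - 1, by omega⟩
      obtain ⟨m, hm⟩ : ∃ m, n - 1 = m + 1 := ⟨n - 2, by omega⟩
      rw [hm]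
      nlinarith [Nat.zero_le (a * m)]
    omega
  · intro hp2
    have h2 := v_two_mul_odd D.pp hp2 D.f1
    rw [hvo, hvp]
    have h4 : (n - 2) / 2 * 2 ≤ n - 2 := Nat.div_mul_le_self _ _
    have h5 : f + (n - 1) ≤ f * (n - 1) + 1 := by
      obtain ⟨a, rfl⟩ : ∃ a, f = a + 1 := ⟨f - 1, by omega⟩
      obtain ⟨m, hm⟩ : ∃ m, n - 1 = m + 1 := ⟨n - 2, by omega⟩
      rw [hm]
      nlinarith [Nat.zero_le (a * m)]
    omega
  · intro hp2
    have h2 := v_two_mul_odd D.pp hp2 D.f1
    rw [hvo, hvp]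
    have h4 : (n - 2) / 2 * 2 ≤ n - 2 := Nat.div_mul_le_self _ _
    have h6 : (n - 1) / 2 * 2 ≤ n - 1 := Nat.div_mul_le_self _ _
    have h5 : f + (n - 1) ≤ f * (n - 1) + 1 := by
      obtain ⟨a, rfl⟩ : ∃ a, f = a + 1 := ⟨f - 1, by omega⟩
      obtain ⟨m, hm⟩ : ∃ m, n - 1 = m + 1 := ⟨n - 2, by omega⟩
      rw [hm]
      nlinarith [Nat.zero_le (a * m)]
    omega

end Dat

end Cfsg.Agent.H889.PDL
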