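import Cfsg.Agent.H889.PDL.Cen
import Cfsg.Agent.H568.FieldFix

/-!
# S4246, row `PSL_n(q)` (helper889): automorphisms of odd prime order
-/

set_option autoImplicit false
set_option linter.unusedSectionVars false

namespace Cfsg.Agent.H889.PDL

open Matrix Module Subgroup Cfsg.Agent.H160.PD
open Cfsg.Agent.ClassicalGeometry.AutPSL.Root
open Cfsg.Agent.ClassicalGeometry.AutPSL.Auto
open Cfsg.Agent.ClassicalGeometry.AutPSL.Main
open Cfsg.Agent.CpAut.Psl
open Cfsg.Agent.H999.RowPSL (ker_pr Prim finrank_fixed irred cj_eq_iff)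

section

variable {F : Type*} [Field F] [Fintype F] {n : ℕ} {r m : ℕ}

/-- An automorphism of odd prime order fixing an element of order `r` is linear. -/
theorem lin_of_fix {p f k : ℕ} (hn : 2 ≤ n) (hp : p.Prime) (hF : Nat.card F = p ^ f) (hR : RP p f n k r)
    (hrz : ¬ r ∣ zz n F) {b : MulAut (PS n F)} (hb : (orderOf b).Prime) (hb2 : orderOf b ≠ 2) {x : PS n F}
    (hx : orderOf x = r) (hbx : b x = x) :
    ∃ A : GL (Fin n) F, b = lift (cj A) ∧ ∃ g : Matrix.SpecialLinearGroup (Fin n) F, pr g = x ∧ orderOf g = r ∧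
      (A : Matrix (Fin n) (Fin n) F) * g.1 = g.1 * (A : Matrix (Fin n) (Fin n) F) := by
  have : Nontrivial (Fin n) := Fin.nontrivial_iff_two_le.2 hn
  obtain ⟨A, σ, rfl⟩ := exists_of_odd (α := b) hn (hb.odd_of_ne_two hb2) (pow_orderOf_eq_one b)
  obtain ⟨g, hgx, hg, hfix⟩ := exists_cent hR.pr hrz hx
  have hgr : g ^ r = 1 := orderOf_dvd_iff_pow_eq_one.1 (dvd_of_eq hg)
  have h1 := hfix _ hbx
  have h2 : (A : Matrix (Fin n) (Fin n) F) * g.1.map σ = g.1 * (A : Matrix (Fin n) (Fin n) F) := by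
    have h3 : cj A (fld σ g) = g := h1
    have h4 := congrArg Subtype.val h3
    rw [coe_cj] at h4
    have h5 : ((fld σ g : Matrix.SpecialLinearGroup (Fin n) F) : Matrix (Fin n) (Fin n) F) = g.1.map σ := rfl
    rw [h5] at h4
    calc (A : Matrix (Fin n) (Fin n) F) * g.1.map σ
        = ((A : Matrix (Fin n) (Fin n) F) * g.1.map σ * ((A⁻¹ : GL (Fin n) F) : Matrix (Fin n) (Fin n) F)) *
            (A : Matrix (Fin n) (Fin n) F) := by
          rw [Matrix.mul_assoc _ _ (A : Matrix (Fin n) (Fin n) F), ← Units.val_mul, inv_mul_cancel, Units.val_one,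
            Matrix.mul_one]
      _ = _ := by rw [h4]
  have hσ : σ = 1 := by
    by_contra hσ1
    obtain ⟨ho, -⟩ := exists_conj hb (pow_orderOf_eq_one _) hσ1
    obtain ⟨E, hE, hfE⟩ := hR.low
    have h3 : 3 ≤ orderOf (lift (cj A * fld σ)) := by
      have := hb.two_le
      omega
    apply hσ1
    refine H568.FieldFix.sigma_eq_one (l := r) (r := p) (f := f) (E := E) hR.pr ?_ hb ?_ hp hF hE ?_ h2 ?_ ?_
    · rw [hF]
      intro hd
      exact hR.ndp (hR.pr.dvd_of_dvd_pow hd)
    · exact orderOf_dvd_iff_pow_eq_one.1 (dvd_of_eq ho)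
    · rw [Fintype.card_fin]
      exact lt_of_lt_of_le hfE (Nat.mul_le_mul_right _ h3)
    · have h4 := congrArg Subtype.val hgr
      rwa [Matrix.SpecialLinearGroup.coe_pow] at h4
    · intro h4
      have h5 : g = 1 := Subtype.ext h4
      rw [h5, orderOf_one] at hg
      exact hR.pr.one_lt.ne hg
  subst hσ
  refine ⟨A, by rw [map_one, mul_one], g, hgx, hg, ?_⟩
  have h3 : g.1.map (1 : F ≃+* F) = g.1 := by
    ext i j
    rfl
  rwa [h3] at h2

/-- the fixed points of a linear automorphism -/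
theorem mem_fx_cj {A : GL (Fin n) F} {y : Matrix.SpecialLinearGroup (Fin n) F} (hy : y ∈ Fx (cj A)) :
    (A : Matrix (Fin n) (Fin n) F) * y.1 = y.1 * (A : Matrix (Fin n) (Fin n) F) := cj_eq_iff hy

/-- the action of a matrix -/
theorem not_scalar {A : GL (Fin n) F} (h : (orderOf (lift (cj A))).Prime) {c : F}
    (hc : (A : Matrix (Fin n) (Fin n) F) = scalar (Fin n) c) : False := by
  rw [cj_eq_one_of_scalar hc.symm, map_one, orderOf_one] at h
  exact Nat.not_prime_one h

end

end Cfsg.Agent.H889.PDL
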