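import Cfsg.Agent.H160.PD.Tools
import Cfsg.Agent.H999.RowPslE
import Cfsg.Agent.S0813

/-!
# S4246, row `PSL_n(q)`, `n ≥ 3` (helper889): central quotients, orders, `|Out|`
-/

set_option autoImplicit false
set_option linter.unusedSectionVars false

namespace Cfsg.Agent.H889.PDL

open Subgroup Cfsg.Agent.H160.PD

section Quot

variable {G H : Type*} [Group G] [Group H] [Finite G] {f : G →* H}

theorem card_eq_mul_ker (hf : Function.Surjective f) : Nat.card G = Nat.card H * Nat.card f.ker := by
  have h1 := Subgroup.card_mul_index f.ker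
  rw [Subgroup.index_ker, MonoidHom.range_eq_top.2 hf, Subgroup.card_top] at h1
  rw [← h1, mul_comm]

/-- the order of a preimage -/
theorem card_comap (hf : Function.Surjective f) (K : Subgroup H) :
    Nat.card (K.comap f) = Nat.card K * Nat.card f.ker := by
  have : Finite H := Finite.of_surjective f hf
  have h1 := Subgroup.card_mul_index (K.comap f)
  have h2 := Subgroup.card_mul_index K
  rw [index_comap_of_surjective K hf, card_eq_mul_ker hf, ← h2] at h1
  have h3 : 0 < K.index := Nat.pos_of_ne_zero K.index_ne_zero_of_finite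
  apply Nat.eq_of_mul_eq_mul_right h3
  rw [h1]
  ring

/-- the fixed points of an automorphism of a central quotient -/
theorem card_fx_dvd (hf : Function.Surjective f) (hc : f.ker ≤ center G) {e : MulAut G} {e' : MulAut H}
    (h : ∀ x, f (e x) = e' (f x)) : Nat.card (Fx e') ∣ Nat.card (Fx e) := by
  set T := (Fx e').comap f with hT
  have hmem : ∀ x : T, e (x : G) * (x : G)⁻¹ ∈ f.ker := by
    intro x
    have h1 : e' (f x) = f x := x.2
    rw [MonoidHom.mem_ker, map_mul, map_inv, h, h1, mul_inv_cancel]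
  let ψ : T →* f.ker :=
    { toFun := fun x => ⟨e (x : G) * (x : G)⁻¹, hmem x⟩
      map_one' := by
        apply Subtype.ext
        simp
      map_mul' := by
        intro x y
        apply Subtype.ext
        show e ((x : G) * y) * ((x : G) * y)⁻¹ = (e (x : G) * (x : G)⁻¹) * (e (y : G) * (y : G)⁻¹)
        have h1 := mem_center_iff.1 (hc (hmem y)) (x : G)⁻¹
        rw [map_mul, mul_inv_rev]
        calc e (x : G) * e y * ((y : G)⁻¹ * (x : G)⁻¹) = e (x : G) * ((e (y : G) * (y : G)⁻¹) * (x : G)⁻¹) := by group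
          _ = e (x : G) * ((x : G)⁻¹ * (e (y : G) * (y : G)⁻¹)) := by rw [h1]
          _ = _ := by group }
  have hker : Nat.card ψ.ker = Nat.card (Fx e) := by
    refine Nat.card_congr ⟨fun x => ⟨x.1.1, ?_⟩, fun x => ⟨⟨x.1, ?_⟩, ?_⟩, fun x => rfl, fun x => rfl⟩
    · have h1 := congrArg Subtype.val (MonoidHom.mem_ker.1 x.2)
      exact mul_inv_eq_one.1 h1
    · have h1 : e x.1 = x.1 := x.2
      show e' (f x.1) = f x.1
      rw [← h, h1]
    · have h1 : e x.1 = x.1 := x.2
      apply Subtype.ext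
      show e x.1 * (x.1)⁻¹ = 1
      rw [h1, mul_inv_cancel]
  have h1 := Subgroup.card_mul_index ψ.ker
  have hTc : Nat.card T = Nat.card (Fx e') * Nat.card f.ker := card_comap hf _
  rw [Subgroup.index_ker, hker, hTc] at h1
  obtain ⟨c, hc⟩ : Nat.card ψ.range ∣ Nat.card f.ker := Subgroup.card_subgroup_dvd_card _
  have h2 : 0 < Nat.card ψ.range := Nat.card_pos
  refine ⟨c, ?_⟩
  apply Nat.eq_of_mul_eq_mul_right h2
  rw [h1, hc]
  ring

theorem card_fx_mul (hf : Function.Surjective f) {e : MulAut G} {e' : MulAut H}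
    (h : ∀ x, f (e x) = e' (f x)) (h' : ∀ x, e' (f x) = f x → e x = x) :
    Nat.card (Fx e') * Nat.card f.ker = Nat.card (Fx e) := by
  rw [← card_comap hf]
  congr 2
  ext x
  exact ⟨fun hx => h' x hx, fun hx => by
    show e' (f x) = f x
    rw [← h, (show e x = x from hx)]⟩

end Quot

section Conj

variable {G : Type*} [Group G]

theorem fx_conj (x : G) : Fx (MulAut.conj x) = centralizer {x} := by
  ext y
  rw [mem_Fx, MulAut.conj_apply, mem_centralizer_singleton_iff, mul_inv_eq_iff_eq_mul]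
  exact eq_comm

end Conj

section Psl

open Matrix
open Cfsg.Agent.ClassicalGeometry.AutPSL.Root
open Cfsg.Agent.ClassicalGeometry.AutPSL.Auto
open Cfsg.Agent.H999.RowPSL (ker_pr exists_lift_order not_dvd_center)

variable {F : Type*} [Field F] [Fintype F] {n : ℕ}

/-- the group -/
abbrev PS (n : ℕ) (F : Type*) [Field F] := Matrix.ProjectiveSpecialLinearGroup (Fin n) F

/-- the order of the centre -/
noncomputable def zz (n : ℕ) (F : Type*) [Field F] : ℕ := Nat.card (center (Matrix.SpecialLinearGroup (Fin n) F))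

theorem zz_pos : 0 < zz n F := Nat.card_pos

theorem card_S_mul : Nat.card (Matrix.SpecialLinearGroup (Fin n) F) = Nat.card (PS n F) * zz n F := by
  rw [card_eq_mul_ker (pr_surjective (ι := Fin n) (F := F)), ker_pr]
  rfl

/-- the fixed points of `lift e` -/
theorem card_fx_lift_dvd (e : MulAut (Matrix.SpecialLinearGroup (Fin n) F)) :
    Nat.card (Fx (lift e)) ∣ Nat.card (Fx e) :=
  card_fx_dvd pr_surjective (by rw [ker_pr]) fun x => (lift_pr e x).symm

theorem v_fx_lift_le (e : MulAut (Matrix.SpecialLinearGroup (Fin n) F)) (t : ℕ) :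
    v t (Fx (lift e)) ≤ v t (Fx e) :=
  (Nat.factorization_le_iff_dvd Nat.card_pos.ne' Nat.card_pos.ne').2 (card_fx_lift_dvd e) t

/-- centralisers of elements of prime order not dividing the order of the centre -/
theorem exists_cent {r : ℕ} (hr : r.Prime) (hrz : ¬ r ∣ zz n F) {x : PS n F} (hx : orderOf x = r) :
    ∃ g : Matrix.SpecialLinearGroup (Fin n) F, pr g = x ∧ orderOf g = r ∧
      ∀ e : MulAut (Matrix.SpecialLinearGroup (Fin n) F), lift e x = x → e g = g := by
  have hk : ¬ r ∣ Nat.card (pr : Matrix.SpecialLinearGroup (Fin n) F →* _).ker := by rwa [ker_pr]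
  obtain ⟨g, hgx, hg⟩ := exists_lift_order pr_surjective hr hk hx
  refine ⟨g, hgx, hg, fun e he => ?_⟩
  subst hgx
  rw [lift_pr] at he
  have h1 : e g * g⁻¹ ∈ (pr : Matrix.SpecialLinearGroup (Fin n) F →* _).ker := by
    rw [MonoidHom.mem_ker, map_mul, map_inv, he, mul_inv_cancel]
  have h2 : e g * g⁻¹ ∈ center (Matrix.SpecialLinearGroup (Fin n) F) := by rwa [ker_pr] at h1
  set c := e g * g⁻¹ with hc
  have h3 : e g = c * g := by rw [hc, inv_mul_cancel_right]
  have h4 : c ^ r = 1 := by
    have h5 : (e g) ^ r = 1 := by rw [← map_pow, ← hg, pow_orderOf_eq_one, map_one]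
    have h6 : Commute c g := (mem_center_iff.1 h2 g).symm
    rw [h3, h6.mul_pow, ← hg, pow_orderOf_eq_one, mul_one] at h5
    rwa [← hg]
  have h7 : c = 1 := by
    have h8 : orderOf c ∣ r := orderOf_dvd_of_pow_eq_one h4
    rcases (Nat.dvd_prime hr).1 h8 with h9 | h9
    · exact orderOf_eq_one_iff.1 h9
    · exfalso
      apply hk
      have h10 := orderOf_dvd_natCard (⟨c, h1⟩ : (pr : Matrix.SpecialLinearGroup (Fin n) F →* _).ker)
      rwa [orderOf_mk, h9] at h10
  rw [h3, h7, one_mul]

theorem lift_conj (g : Matrix.SpecialLinearGroup (Fin n) F) : lift (MulAut.conj g) = MulAut.conj (pr g) := by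
  apply MulEquiv.ext
  intro x
  obtain ⟨x, rfl⟩ := pr_surjective x
  rw [lift_pr, MulAut.conj_apply, MulAut.conj_apply, map_mul, map_mul, map_inv]

/-- `|C_S(x)| z = |C_SL(g)|` -/
theorem card_cent {r : ℕ} (hr : r.Prime) (hrz : ¬ r ∣ zz n F) {x : PS n F} (hx : orderOf x = r) :
    ∃ g : Matrix.SpecialLinearGroup (Fin n) F, pr g = x ∧ orderOf g = r ∧
      (∀ e : MulAut (Matrix.SpecialLinearGroup (Fin n) F), lift e x = x → e g = g) ∧
      Nat.card (centralizer {x} : Subgroup (PS n F)) * zz n F =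
        Nat.card (centralizer {g} : Subgroup (Matrix.SpecialLinearGroup (Fin n) F)) := by
  obtain ⟨g, hgx, hg, hfix⟩ := exists_cent hr hrz hx
  refine ⟨g, hgx, hg, hfix, ?_⟩
  have h1 := card_fx_mul (pr_surjective (ι := Fin n) (F := F)) (e := MulAut.conj g) (e' := MulAut.conj x)
    (fun y => by rw [← hgx, ← lift_conj, lift_pr]) (fun y hy => by
      rw [MulAut.conj_apply, mul_inv_eq_iff_eq_mul] at hy ⊢
      have h2 := hfix (MulAut.conj y) (by
        rw [lift_conj, MulAut.conj_apply, mul_inv_eq_iff_eq_mul]; exact hy.symm)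
      rw [MulAut.conj_apply, mul_inv_eq_iff_eq_mul] at h2
      exact h2.symm)
  rw [fx_conj, fx_conj, ker_pr] at h1
  exact h1

/-- `|Out S| = 2 z f` -/
theorem out_mul (hn : 3 ≤ n) {p f : ℕ} (hp : p.Prime) (hf : 1 ≤ f) (hF : Fintype.card F = p ^ f)
    (hZ : center (PS n F) = ⊥) : out (PS n F) = 2 * f * zz n F := by
  have := Fact.mk hp
  have : Nonempty (Fin n) := ⟨⟨0, by omega⟩⟩
  have h1 := Cfsg.Agent.S0813.result (F := F) p f hf hF n (by omega) (by omega)
  rw [if_neg (by omega), Cfsg.Agent.ClassicalGeometry.PSL2Basic.card_PGL_eq_card_SL, card_S_mul] at h1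
  have h2 := Subgroup.card_mul_index (MulAut.conj : PS n F →* MulAut (PS n F)).range
  have h3 : Nat.card (MulAut.conj : PS n F →* MulAut (PS n F)).range = Nat.card (PS n F) :=
    (Nat.card_congr (MonoidHom.ofInjective (conj_injective hZ)).toEquiv).symm
  rw [h3] at h2
  change Nat.card (PS n F) * out (PS n F) = Nat.card (MulAut (PS n F)) at h2
  rw [h1] at h2
  have h4 : 0 < Nat.card (PS n F) := Nat.card_pos
  apply Nat.eq_of_mul_eq_mul_left h4
  rw [h2]
  ring

end Psl

end Cfsg.Agent.H889.PDL
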