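import Cfsg.Agent.H889.PDL.SitB

/-!
# S4246, row `PSL_n(q)` (helper889): centralisers and normalisers in `PSL_n(q)`
-/

set_option autoImplicit false
set_option linter.unusedSectionVars false

namespace Cfsg.Agent.H889.PDL

open Matrix Module Subgroup Cfsg.Agent.H160.PD
open Cfsg.Agent.ClassicalGeometry.AutPSL.Root
open Cfsg.Agent.ClassicalGeometry.AutPSL.Auto
open Cfsg.Agent.H999.RowPSL (ker_pr Prim finrank_fixed irred)

section

variable {F : Type*} [Field F] [Fintype F] {n : ℕ} {r m : ℕ}

theorem eq_of_pr_eq (hr : r.Prime) (hrz : ¬ r ∣ zz n F) {a b : Matrix.SpecialLinearGroup (Fin n) F}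
    (h : pr a = pr b) (ha : a ^ r = 1) (hb : b ^ r = 1) : a = b := by
  have h1 : a * b⁻¹ ∈ (pr : Matrix.SpecialLinearGroup (Fin n) F →* _).ker := by
    rw [MonoidHom.mem_ker, map_mul, map_inv, h, mul_inv_cancel]
  have h2 : a * b⁻¹ ∈ center (Matrix.SpecialLinearGroup (Fin n) F) := by rwa [ker_pr] at h1
  set c := a * b⁻¹ with hc
  have h3 : a = c * b := by rw [hc, inv_mul_cancel_right]
  have h4 : c ^ r = 1 := by
    have h6 : Commute c b := (mem_center_iff.1 h2 b).symm
    rwa [h3, h6.mul_pow, hb, mul_one] at ha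
  have h7 : c = 1 := by
    have h8 : orderOf c ∣ r := orderOf_dvd_of_pow_eq_one h4
    rcases (Nat.dvd_prime hr).1 h8 with h9 | h9
    · exact orderOf_eq_one_iff.1 h9
    · exfalso
      apply hrz
      have h10 := orderOf_dvd_natCard (⟨c, h2⟩ : center (Matrix.SpecialLinearGroup (Fin n) F))
      rwa [orderOf_mk, h9] at h10
  rw [h3, h7, one_mul]

/-- The facts on the elements of order `r`. -/
structure Fine (n : ℕ) (F : Type*) [Field F] [Fintype F] (r m : ℕ) : Prop where
  prim : Prim (Nat.card F) r m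
  ndz : ¬ r ∣ zz n F
  cyc : ∀ x : PS n F, orderOf x = r → IsCyclic (centralizer {x} : Subgroup (PS n F))
  cent : ∀ x : PS n F, orderOf x = r → Nat.card (centralizer {x} : Subgroup (PS n F)) * zz n F ∣ Nat.card F ^ m - 1
  norm : ∀ x : PS n F, orderOf x = r → Nat.card (normalizer ((zpowers x : Subgroup (PS n F)) : Set (PS n F))) ≤
    m * Nat.card (centralizer {x} : Subgroup (PS n F))

theorem fine_of_sit (hrz : ¬ r ∣ zz n F) (hP : Prim (Nat.card F) r m)
    (hs : ∀ g : Matrix.SpecialLinearGroup (Fin n) F, orderOf g = r → ∃ W, Sit g W r m) : Fine n F r m where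
  prim := hP
  ndz := hrz
  cyc := fun x hx => by
    obtain ⟨g, hgx, hg, hfix, hcard⟩ := card_cent hP.pr hrz hx
    obtain ⟨W, hW⟩ := hs g hg
    have := hW.isCyclic
    -- the centraliser is the image
    let φ : (centralizer {g} : Subgroup (Matrix.SpecialLinearGroup (Fin n) F)) →*
        (centralizer {x} : Subgroup (PS n F)) :=
      { toFun := fun y => ⟨pr y.1, by
          rw [mem_centralizer_singleton_iff, ← hgx, ← map_mul, ← map_mul, mem_centralizer_singleton_iff.1 y.2]⟩
        map_one' := Subtype.ext (map_one _)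
        map_mul' := fun a b => Subtype.ext (map_mul _ _ _) }
    refine isCyclic_of_surjective φ ?_
    rintro ⟨z, hz⟩
    obtain ⟨y, rfl⟩ := pr_surjective z
    refine ⟨⟨y, ?_⟩, rfl⟩
    have h1 := hfix (MulAut.conj y) (by
      rw [lift_conj, MulAut.conj_apply, mul_inv_eq_iff_eq_mul]
      exact mem_centralizer_singleton_iff.1 hz)
    rw [MulAut.conj_apply, mul_inv_eq_iff_eq_mul] at h1
    exact mem_centralizer_singleton_iff.2 h1
  cent := fun x hx => by
    obtain ⟨g, -, hg, -, hcard⟩ := card_cent hP.pr hrz hx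
    obtain ⟨W, hW⟩ := hs g hg
    rw [hcard]
    exact hW.card_cent_dvd
  norm := fun x hx => by
    obtain ⟨g, hgx, hg, hfix, hcard⟩ := card_cent hP.pr hrz hx
    obtain ⟨W, hW⟩ := hs g hg
    have h1 := hW.card_norm_le
    have hle : (normalizer ((zpowers x : Subgroup (PS n F)) : Set (PS n F))).comap pr ≤
        normalizer ((zpowers g : Subgroup _) : Set (Matrix.SpecialLinearGroup (Fin n) F)) := by
      have key : ∀ y : Matrix.SpecialLinearGroup (Fin n) F,
          pr y ∈ normalizer ((zpowers x : Subgroup (PS n F)) : Set (PS n F)) →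
          ∀ w ∈ zpowers g, y * w * y⁻¹ ∈ zpowers g := by
        intro y hy w hw
        have h2 := (mem_normalizer_iff.1 hy x).1 (mem_zpowers x)
        obtain ⟨k, hk⟩ := h2
        have hk' : x ^ k = pr y * x * (pr y)⁻¹ := hk
        have hgr : g ^ r = 1 := orderOf_dvd_iff_pow_eq_one.1 (dvd_of_eq hg)
        have h3 : y * g * y⁻¹ = g ^ k := by
          refine eq_of_pr_eq hP.pr hrz ?_ ?_ ?_
          · rw [map_mul, map_mul, map_inv, map_zpow, hgx, hk']
          · rw [conj_pow, hgr, mul_one, mul_inv_cancel]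
          · rw [← zpow_natCast, ← _root_.zpow_mul, mul_comm, _root_.zpow_mul, zpow_natCast, hgr, _root_.one_zpow]
        obtain ⟨j, rfl⟩ := hw
        have h4 : y * g ^ j * y⁻¹ = (y * g * y⁻¹) ^ j := conj_zpow.symm
        show y * g ^ j * y⁻¹ ∈ _
        rw [h4, h3]
        exact zpow_mem (zpow_mem (mem_zpowers g) k) j
      intro y hy
      rw [mem_normalizer_iff]
      intro w
      refine ⟨key y hy w, fun hw => ?_⟩
      have h5 := key y⁻¹ (by rw [map_inv]; exact inv_mem hy) _ hw
      have h6 : y⁻¹ * (y * w * y⁻¹) * y⁻¹⁻¹ = w := by group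
      rwa [h6] at h5
    have h2 := Nat.le_of_dvd Nat.card_pos (card_dvd_of_le hle)
    rw [card_comap pr_surjective, ker_pr] at h2
    have h3 := h2.trans h1
    rw [← hcard, ← mul_assoc] at h3
    exact Nat.le_of_mul_le_mul_right h3 zz_pos

/-- `r` primitive for `q ^ n - 1` -/
theorem fine_top (hrz : ¬ r ∣ zz n F) (hP : Prim (Nat.card F) r n) : Fine n F r n :=
  fine_of_sit hrz hP fun _ hg => ⟨_, sit_top hg hP⟩

/-- `r` primitive for `q ^ (n - 1) - 1` -/
theorem fine_pred (hn : 3 ≤ n) (hrz : ¬ r ∣ zz n F) (hP : Prim (Nat.card F) r (n - 1)) : Fine n F r (n - 1) :=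
  fine_of_sit hrz hP fun _ hg => ⟨_, sit_range hn hg hP⟩

namespace Fine

theorem uniq (h : Fine n F r m) : Uniq (PS n F) r := uniq_of_cyclic h.cyc

/-- the index of the centraliser in the normaliser -/
theorem exists_idx (h : Fine n F r m) {x : PS n F} (hx : orderOf x = r) : ∃ e : ℕ, e ≠ 0 ∧ e ≤ m ∧
    Nat.card (normalizer ((zpowers x : Subgroup (PS n F)) : Set (PS n F))) =
      e * Nat.card (centralizer {x} : Subgroup (PS n F)) := by
  have hle : (centralizer {x} : Subgroup (PS n F)) ≤ normalizer ((zpowers x : Subgroup (PS n F)) : Set (PS n F)) := by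
    intro y hy
    rw [mem_centralizer_singleton_iff] at hy
    apply centralizer_le_normalizer
    rw [mem_centralizer_iff]
    rintro _ ⟨k, rfl⟩
    exact ((Commute.zpow_right (show Commute y x from hy) k).symm).eq
  obtain ⟨e, he⟩ := card_dvd_of_le hle
  have hpos : 0 < Nat.card (centralizer {x} : Subgroup (PS n F)) := Nat.card_pos
  have hpos' : 0 < Nat.card (normalizer ((zpowers x : Subgroup (PS n F)) : Set (PS n F))) := Nat.card_pos
  refine ⟨e, ?_, ?_, by rw [he, mul_comm]⟩
  · rintro rfl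
    rw [he, mul_zero] at hpos'
    exact lt_irrefl _ hpos'
  · have h1 := h.norm x hx
    rw [he, mul_comm] at h1
    exact Nat.le_of_mul_le_mul_right h1 hpos

theorem v_cent (h : Fine n F r m) (hm : m ≠ 0) {x : PS n F} (hx : orderOf x = r) (t : ℕ) :
    v t (centralizer {x} : Subgroup (PS n F)) + (zz n F).factorization t ≤ (Nat.card F ^ m - 1).factorization t := by
  have hq : 1 < Nat.card F := Finite.one_lt_card
  have h0 : Nat.card F ^ m - 1 ≠ 0 := by
    have := Nat.one_lt_pow hm hq
    omega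
  have h1 := (Nat.factorization_le_iff_dvd (mul_ne_zero Nat.card_pos.ne' zz_pos.ne') h0).2 (h.cent x hx) t
  rwa [Nat.factorization_mul Nat.card_pos.ne' zz_pos.ne', Finsupp.add_apply] at h1

/-- the characteristic does not divide the order of the centraliser -/
theorem v_cent_char (h : Fine n F r m) (hm : m ≠ 0) {p : ℕ} (hp : p.Prime) (hpF : p ∣ Nat.card F)
    {x : PS n F} (hx : orderOf x = r) : v p (centralizer {x} : Subgroup (PS n F)) = 0 := by
  have h1 := h.v_cent hm hx p
  rw [Nat.factorization_eq_zero_of_not_dvd (not_dvd_pow_sub hp hpF Nat.card_pos hm)] at h1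
  omega

theorem v_norm_char (h : Fine n F r m) (hm : m ≠ 0) {p : ℕ} (hp : p.Prime) (hp2 : p ≠ 2) (hpF : p ∣ Nat.card F)
    {x : PS n F} (hx : orderOf x = r) :
    v p (normalizer ((zpowers x : Subgroup (PS n F)) : Set (PS n F))) ≤ (m - 1) / 2 := by
  obtain ⟨e, he0, hem, he⟩ := h.exists_idx hx
  have h1 : v p (normalizer ((zpowers x : Subgroup (PS n F)) : Set (PS n F))) = e.factorization p := by
    have h2 := h.v_cent_char hm hp hpF hx
    simp only [v] at h2 ⊢
    rw [he, Nat.factorization_mul he0 Nat.card_pos.ne', Finsupp.add_apply, h2, add_zero]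
  rw [h1]
  have h2 := v_le_odd hp hp2 he0 hem
  omega

/-- primes `s > m` not dividing `q ^ m - 1` do not divide the order of the normaliser -/
theorem not_dvd_norm (h : Fine n F r m) {s : ℕ} (hs : s.Prime) (hsm : m < s)
    (hsq : ¬ s ∣ Nat.card F ^ m - 1) {x : PS n F} (hx : orderOf x = r) :
    ¬ s ∣ Nat.card (normalizer ((zpowers x : Subgroup (PS n F)) : Set (PS n F))) := by
  obtain ⟨e, he0, hem, he⟩ := h.exists_idx hx
  rw [he]
  intro hd
  rcases hs.dvd_mul.1 hd with h1 | h1
  · have := Nat.le_of_dvd (Nat.pos_of_ne_zero he0) h1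
    omega
  · exact hsq ((h1.mul_right _).trans (h.cent x hx))

end Fine

end

end Cfsg.Agent.H889.PDL
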