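import Cfsg.Agent.H889.PDL.Prm

/-!
# S4246, row `PSL_n(q)` (helper889): common part of the two criteria
-/

set_option autoImplicit false
set_option linter.unusedSectionVars false

namespace Cfsg.Agent.H889.PDL

open Matrix Module Subgroup Cfsg.Agent.H160.PD
open Cfsg.Agent.ClassicalGeometry.AutPSL.Root
open Cfsg.Agent.ClassicalGeometry.AutPSL.Auto
open Cfsg.Agent.ClassicalGeometry.AutPSL.Main
open Cfsg.Agent.H999.RowPSL (ker_pr Prim irred noNorm_of_irred injective_toGL)

/-- the data -/
structure Dat (n : ℕ) (F : Type*) [Field F] [Fintype F] (p f : ℕ) : Prop where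
  n3 : 3 ≤ n
  pp : p.Prime
  f1 : 1 ≤ f
  hF : Nat.card F = p ^ f
  hZ : center (PS n F) = ⊥

variable {F : Type*} [Field F] [Fintype F] {n p f : ℕ}

namespace Dat

theorem pF (D : Dat n F p f) : p ∣ Nat.card F := by
  rw [D.hF]
  exact dvd_pow_self _ (by have := D.f1; omega)

theorem v_out (D : Dat n F p f) (t : ℕ) :
    (out (PS n F)).factorization t = (2 * f).factorization t + (zz n F).factorization t := by
  have h1 := D.f1
  rw [out_mul D.n3 D.pp D.f1 (by rw [← Nat.card_eq_fintype_card, D.hF]) D.hZ,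
    Nat.factorization_mul (by omega) zz_pos.ne', Finsupp.add_apply]

theorem v_out_char (D : Dat n F p f) : (out (PS n F)).factorization p = (2 * f).factorization p := by
  rw [D.v_out, Nat.factorization_eq_zero_of_not_dvd (zz_char (by have := D.n3; omega) D.pp D.pF), add_zero]

theorem v_char (D : Dat n F p f) : v p (PS n F) = f * ((n - 1) * (n - 2) / 2 + (n - 1)) := by
  have h1 := D.n3
  rw [v_S_char (by omega) D.pp D.f1 D.hF, tri_succ n (by omega)]

theorem prim {k r : ℕ} (D : Dat n F p f) (hR : RP p f n k r) : Prim (Nat.card F) r k := by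
  rw [D.hF]
  exact Cfsg.Agent.H999.RowPSL.Prim.of_iff hR.pr hR.ord

theorem ord {k r : ℕ} (D : Dat n F p f) (hR : RP p f n k r) (j : ℕ) (h : r ∣ Nat.card F ^ j - 1) : k ∣ j := by
  rw [D.hF] at h
  exact (hR.ord j).1 h

theorem ndz {k r : ℕ} (D : Dat n F p f) (hk : 2 ≤ k) (hR : RP p f n k r) : ¬ r ∣ zz n F := by
  have h1 := D.n3
  apply not_dvd_zz (by omega) hR.pr
  intro h
  have h2 := D.ord hR 1 (by rwa [pow_one])
  have := Nat.dvd_one.1 h2
  omega

theorem r_ne_two {k r : ℕ} (D : Dat n F p f) (hR : RP p f n k r) : r ≠ 2 := by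
  have h1 := D.n3
  have h2 := hR.gt
  omega

theorem r_ne_p {k r : ℕ} (hR : RP p f n k r) : p ≠ r := by
  rintro rfl
  exact hR.ndp dvd_rfl

theorem good {k r : ℕ} (D : Dat n F p f) (hk : 2 ≤ k) (hkn : k ≤ n) (hR : RP p f n k r) : Good (PS n F) r where
  prime := hR.pr
  odd := D.r_ne_two hR
  lt := by
    have h0 := D.ndz hk hR
    have h1 : (out (PS n F)).factorization r = 0 := by
      rw [D.v_out, Nat.factorization_eq_zero_of_not_dvd h0, Nat.factorization_eq_zero_of_not_dvd]
      intro h2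
      rcases hR.pr.dvd_mul.1 h2 with h3 | h3
      · exact D.r_ne_two hR ((Nat.prime_dvd_prime_iff_eq hR.pr Nat.prime_two).1 h3)
      · exact hR.ndf h3
    rw [h1, v_pos hR.pr]
    have h2 : r ∣ Nat.card (Matrix.SpecialLinearGroup (Fin n) F) := by
      refine Cfsg.Agent.H999.RowPSL.dvd_card_SL (j := k) hk hkn ?_
      rw [← Nat.card_eq_fintype_card]
      exact (D.prim hR).dvd
    rw [card_S_mul] at h2
    exact (hR.pr.dvd_mul.1 h2).resolve_right h0

/-- the primes of the order -/
theorem sum_le (D : Dat n F p f) (t : ℕ) (s : Finset ℕ) (hs : s ⊆ Finset.Icc 2 n) :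
    ∑ j ∈ s, (Nat.card F ^ j - 1).factorization t ≤ v t (PS n F) + (zz n F).factorization t := by
  have h1 := D.n3
  rw [v_S]
  have hne : ∀ j ∈ Finset.Icc 2 n, Nat.card F ^ j - 1 ≠ 0 := by
    intro j hj
    rw [Finset.mem_Icc] at hj
    have := Nat.one_lt_pow (n := j) (by omega) (Finite.one_lt_card (α := F))
    omega
  have h2 : (∏ j ∈ s, (Nat.card F ^ j - 1)).factorization t = ∑ j ∈ s, (Nat.card F ^ j - 1).factorization t := by
    rw [Nat.factorization_prod fun j hj => hne j (hs hj), Finsupp.finsetSum_apply]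
  rw [← h2]
  refine (Nat.factorization_le_iff_dvd (Finset.prod_ne_zero_iff.2 fun j hj => hne j (hs hj)) Nat.card_pos.ne').2 ?_ t
  rw [H953.card_SL n (by omega), ← Nat.card_eq_fintype_card]
  exact (Finset.prod_dvd_prod_of_subset _ _ _ hs).mul_left _

/-- the centralisers of the involutions, `p` odd -/
theorem inv (D : Dat n F p f) (hp2 : p ≠ 2) (s : PS n F) (hs : orderOf s = 2) :
    v p (centralizer {s} : Subgroup (PS n F)) ≤ f * ((n - 1) * (n - 2) / 2) := by
  have h1 := D.n3
  obtain ⟨g, rfl⟩ := pr_surjective s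
  have h2 : lift (cj (Matrix.SpecialLinearGroup.toGL g)) = MulAut.conj (pr g) := by
    rw [← lift_conj]
    congr 1
  have h3 : orderOf (lift (cj (Matrix.SpecialLinearGroup.toGL g))) = 2 := by
    rw [h2, orderOf_injective _ (conj_injective D.hZ), hs]
  rw [← fx_conj, ← h2]
  exact v_fx_le (by omega) D.pp D.f1 D.hF (by rw [h3]; exact Nat.prime_two) (by rw [h3]; exact hp2.symm)

/-- `noNorm` for the irreducible elements -/
theorem noNorm {r : ℕ} (D : Dat n F p f) (hP : Prim (Nat.card F) r n) (hrz : ¬ r ∣ zz n F) (X : Subgroup (PS n F))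
    (hX : IsPGroup p X) (x : PS n F) (hx : x ∈ normalizer (X : Set (PS n F))) (hxo : orderOf x = r) : v p X ≤ 0 := by
  have h1 := D.n3
  have hpF := Fact.mk D.pp
  have hne : Nonempty (Fin n) := ⟨⟨0, by omega⟩⟩
  obtain ⟨g, rfl, hg, -⟩ := exists_cent hP.pr hrz hxo
  have hchar : CharP F p := by
    have hF' : Fintype.card F = p ^ f := by rw [← Nat.card_eq_fintype_card, D.hF]
    exact charP_of_card_eq_prime_pow hF'
  have h2 := noNorm_of_irred (p := p) pr_surjective (by rw [ker_pr]) _ injective_toGL (CharP.cast_eq_zero F p)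
    (irred hP (x := (g : Matrix (Fin n) (Fin n) F)) (by
      have h3 : g ^ r = 1 := orderOf_dvd_iff_pow_eq_one.1 (dvd_of_eq hg)
      have h4 := congrArg Subtype.val h3
      rwa [Matrix.SpecialLinearGroup.coe_pow] at h4) (by
      intro h3
      have h4 : g = 1 := Subtype.ext h3
      rw [h4, orderOf_one] at hg
      exact hP.pr.one_lt.ne hg)) X hX hx
  rw [h2]
  unfold v
  rw [Subgroup.card_bot, Nat.factorization_one]
  exact le_rfl

end Dat

end Cfsg.Agent.H889.PDL
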