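import Cfsg.Agent.H889.PDL.Semi

/-!
# S4246, row `PSL_n(q)` (helper889): field automorphisms, orders
-/

set_option autoImplicit false
set_option linter.unusedSectionVars false

namespace Cfsg.Agent.H889.PDL

open Matrix Module Subgroup Cfsg.Agent.H160.PD
open Cfsg.Agent.ClassicalGeometry.AutPSL.Root
open Cfsg.Agent.ClassicalGeometry.AutPSL.Auto
open Cfsg.Agent.ClassicalGeometry.AutPSL.Main
open Cfsg.Agent.CpAut.Psl
open Cfsg.Agent.H999.RowPSL (ker_pr not_dvd_center)

section Num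

theorem tri_succ (n : ℕ) (hn : 2 ≤ n) : n * (n - 1) / 2 = (n - 1) * (n - 2) / 2 + (n - 1) := by
  obtain ⟨m, rfl⟩ : ∃ m, n = m + 2 := ⟨n - 2, by omega⟩
  have e1 : m + 2 - 1 = m + 1 := by omega
  have e2 : m + 2 - 2 = m := by omega
  rw [e1, e2]
  have h1 : (m + 2) * (m + 1) = (m + 1) * m + (m + 1) * 2 := by ring
  rw [h1, Nat.add_mul_div_right _ _ (by norm_num)]

theorem tri_two (n : ℕ) (hn : 3 ≤ n) : n - 1 ≤ 2 * ((n - 1) * (n - 2) / 2) := by
  obtain ⟨m, rfl⟩ : ∃ m, n = m + 3 := ⟨n - 3, by omega⟩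
  have e1 : m + 3 - 1 = m + 2 := by omega
  have e2 : m + 3 - 2 = m + 1 := by omega
  rw [e1, e2]
  have h1 : 2 ∣ (m + 2) * (m + 1) := by
    rw [mul_comm]; exact even_iff_two_dvd.1 (Nat.even_mul_succ_self (m + 1))
  rw [Nat.mul_div_cancel' h1]
  nlinarith

end Num

section Ord

/-- the characteristic part of `|SL_n(q)|` -/
theorem v_SL {K : Type*} [Field K] [Fintype K] {n p f : ℕ} (hn : 1 ≤ n) (hp : p.Prime) (hf : 1 ≤ f)
    (hK : Nat.card K = p ^ f) : v p (Matrix.SpecialLinearGroup (Fin n) K) = f * (n * (n - 1) / 2) := by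
  have hK' : Fintype.card K = p ^ f := by rw [← Nat.card_eq_fintype_card, hK]
  have hpK : p ∣ Fintype.card K := by rw [hK']; exact dvd_pow_self _ (by omega)
  unfold v
  rw [H953.card_SL n hn, Finset.sum_range_id]
  have h0 : ∏ j ∈ Finset.Icc 2 n, (Fintype.card K ^ j - 1) ≠ 0 := by
    rw [Finset.prod_ne_zero_iff]
    intro j hj
    rw [Finset.mem_Icc] at hj
    have := Nat.one_lt_pow (n := j) (by omega) (Fintype.one_lt_card (α := K))
    omega
  have h1 : (∏ j ∈ Finset.Icc 2 n, (Fintype.card K ^ j - 1)).factorization p = 0 := by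
    apply Nat.factorization_eq_zero_of_not_dvd
    intro h
    obtain ⟨j, hj, hd⟩ := (Nat.Prime.prime hp).exists_mem_finset_dvd h
    rw [Finset.mem_Icc] at hj
    exact not_dvd_pow_sub hp hpK Fintype.card_pos (by omega) hd
  rw [Nat.factorization_mul (pow_ne_zero _ Fintype.card_ne_zero) h0, Finsupp.add_apply, h1, add_zero, hK',
    ← pow_mul, hp.factorization_pow, Finsupp.single_eq_same]

variable {F : Type*} [Field F] [Fintype F] {n : ℕ}

theorem v_S (t : ℕ) : v t (PS n F) + (zz n F).factorization t = v t (Matrix.SpecialLinearGroup (Fin n) F) := by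
  unfold v
  rw [card_S_mul, Nat.factorization_mul Nat.card_pos.ne' zz_pos.ne', Finsupp.add_apply]

/-- the primes dividing the order of the centre divide `q - 1` -/
theorem not_dvd_zz (hn : 1 ≤ n) {l : ℕ} (hl : l.Prime) (h : ¬ l ∣ Nat.card F - 1) : ¬ l ∣ zz n F := by
  rw [Nat.card_eq_fintype_card] at h
  have := not_dvd_center (n := n) hn hl h
  rwa [ker_pr] at this

/-- the primes dividing the order of the centre divide `n` -/
theorem not_dvd_zz' {l : ℕ} (hl : l.Prime) (h : ¬ l ∣ n) : ¬ l ∣ zz n F := by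
  intro hd
  have hfl : Fact l.Prime := ⟨hl⟩
  obtain ⟨c, hc⟩ := exists_prime_orderOf_dvd_card' (G := center (Matrix.SpecialLinearGroup (Fin n) F)) l hd
  apply h
  rw [← hc]
  apply orderOf_dvd_of_pow_eq_one
  obtain ⟨s, hs1, hs⟩ := Matrix.SpecialLinearGroup.mem_center_iff.1 c.2
  rw [Fintype.card_fin] at hs1
  apply Subtype.ext
  apply Subtype.ext
  show ((c : Matrix.SpecialLinearGroup (Fin n) F) ^ n : Matrix.SpecialLinearGroup (Fin n) F).1 = 1
  rw [Matrix.SpecialLinearGroup.coe_pow, ← hs, ← map_pow, hs1, map_one]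

theorem zz_char (hn : 1 ≤ n) {p : ℕ} (hp : p.Prime) (hpF : p ∣ Nat.card F) : ¬ p ∣ zz n F := by
  apply not_dvd_zz hn hp
  have := not_dvd_pow_sub hp hpF Nat.card_pos one_ne_zero
  rwa [pow_one] at this

theorem v_S_char (hn : 1 ≤ n) {p f : ℕ} (hp : p.Prime) (hf : 1 ≤ f) (hF : Nat.card F = p ^ f) :
    v p (PS n F) = f * (n * (n - 1) / 2) := by
  have h1 := v_S (n := n) (F := F) p
  rw [v_SL hn hp hf hF, Nat.factorization_eq_zero_of_not_dvd (zz_char hn hp (by
    rw [hF]; exact dvd_pow_self _ (by omega))), add_zero] at h1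
  exact h1

end Ord

section Field

variable {F : Type*} [Field F] [Fintype F] {n : ℕ}

theorem card_fx_conj {G : Type*} [Group G] (c e : MulAut G) : Nat.card (Fx (c * e * c⁻¹)) = Nat.card (Fx e) := by
  refine Nat.card_congr ⟨fun x => ⟨c⁻¹ x.1, ?_⟩, fun x => ⟨c x.1, ?_⟩, fun x => ?_, fun x => ?_⟩
  · have h1 : c (e (c⁻¹ x.1)) = x.1 := x.2
    show e (c⁻¹ x.1) = c⁻¹ x.1
    have h2 : c⁻¹ (c (e (c⁻¹ x.1))) = e (c⁻¹ x.1) := MulAut.inv_apply_self _ _ _
    rw [← h2, h1]
  · have h1 : e x.1 = x.1 := x.2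
    show c (e (c⁻¹ (c x.1))) = c x.1
    rw [MulAut.inv_apply_self, h1]
  · apply Subtype.ext
    show c (c⁻¹ x.1) = x.1
    exact MulAut.apply_inv_self _ _ _
  · apply Subtype.ext
    show c⁻¹ (c x.1) = x.1
    exact MulAut.inv_apply_self _ _ _

/-- the fixed points of a field automorphism -/
theorem card_fx_fld_dvd (σ : F ≃+* F) :
    Nat.card (Fx (fld σ : MulAut (Matrix.SpecialLinearGroup (Fin n) F))) ∣
      Nat.card (Matrix.SpecialLinearGroup (Fin n) ↥(fixf σ)) := by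
  have hle : Fx (fld σ : MulAut (Matrix.SpecialLinearGroup (Fin n) F)) ≤ (emb σ).range := by
    intro g hg
    obtain ⟨h, hh⟩ := exists_emb (show fld σ g = g from hg)
    exact ⟨h, hh⟩
  exact (card_dvd_of_le hle).trans (Subgroup.card_range_dvd _)

theorem v_fx_fld_le (hn : 3 ≤ n) {p f : ℕ} (hp : p.Prime) (hF : Nat.card F = p ^ f) {A : GL (Fin n) F}
    {σ : F ≃+* F} (hσ : σ ≠ 1) (hb : (orderOf (lift (cj A * fld σ))).Prime)
    (hb2 : orderOf (lift (cj A * fld σ)) ≠ 2) :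
    v p (Fx (lift (cj A * fld σ))) ≤ f * ((n - 1) * (n - 2) / 2) := by
  classical
  have hnt : Nontrivial (Fin n) := Fin.nontrivial_iff_two_le.2 (by omega)
  obtain ⟨ho, B, hB⟩ := exists_conj hb (pow_orderOf_eq_one _) hσ
  refine (v_fx_lift_le _ p).trans ?_
  have h1 : v p (Fx (cj A * fld σ : MulAut (Matrix.SpecialLinearGroup (Fin n) F))) =
      v p (Fx (fld σ : MulAut (Matrix.SpecialLinearGroup (Fin n) F))) := by
    unfold v
    rw [hB, card_fx_conj]
  rw [h1]
  have hft : Fintype ↥(fixf σ) := Fintype.ofFinite _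
  have h2 : v p (Fx (fld σ : MulAut (Matrix.SpecialLinearGroup (Fin n) F))) ≤
      v p (Matrix.SpecialLinearGroup (Fin n) ↥(fixf σ)) :=
    (Nat.factorization_le_iff_dvd Nat.card_pos.ne' Nat.card_pos.ne').2 (card_fx_fld_dvd σ) p
  refine h2.trans ?_
  -- the field
  have hq0 : Nat.card F = Nat.card ↥(fixf σ) ^ orderOf (lift (cj A * fld σ)) := by
    rw [← ho, Nat.card_eq_fintype_card (α := F), CpAutU.Fld.card_fixf rfl]
  have h3 : 3 ≤ orderOf (lift (cj A * fld σ)) := by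
    have := hb.two_le
    omega
  set t := orderOf (lift (cj A * fld σ)) with ht
  have h4 : Nat.card ↥(fixf σ) ∣ p ^ f := by
    rw [← hF, hq0]
    exact dvd_pow_self _ (by omega)
  obtain ⟨f0, -, h5⟩ := (Nat.dvd_prime_pow hp).1 h4
  have hf0 : 1 ≤ f0 := by
    by_contra h
    have h6 : f0 = 0 := by omega
    rw [h6, pow_zero] at h5
    have : 1 < Nat.card ↥(fixf σ) := Finite.one_lt_card
    omega
  rw [hF, h5, ← pow_mul] at hq0
  have h6 : f = f0 * t := Nat.pow_right_injective hp.two_le hq0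
  rw [v_SL (by omega) hp hf0 h5, h6]
  have h7 := tri_succ n (by omega)
  have h8 := tri_two n hn
  set T := (n - 1) * (n - 2) / 2
  rw [h7]
  calc f0 * (T + (n - 1)) ≤ f0 * (3 * T) := Nat.mul_le_mul_left _ (by omega)
    _ ≤ f0 * (t * T) := Nat.mul_le_mul_left _ (Nat.mul_le_mul_right _ h3)
    _ = f0 * t * T := by ring

/-- **The fixed points of all automorphisms of odd prime order different from the characteristic.** -/
theorem v_fx_all (hn : 3 ≤ n) {p f : ℕ} (hp : p.Prime) (hf : 1 ≤ f) (hF : Nat.card F = p ^ f)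
    (b : MulAut (PS n F)) (hb : (orderOf b).Prime) (hb2 : orderOf b ≠ 2) (hbp : orderOf b ≠ p) :
    v p (Fx b) ≤ f * ((n - 1) * (n - 2) / 2) := by
  obtain ⟨A, σ, rfl⟩ := exists_of_odd (α := b) (by omega) (hb.odd_of_ne_two hb2) (pow_orderOf_eq_one b)
  by_cases hσ : σ = 1
  · subst hσ
    rw [map_one, mul_one] at hb hbp ⊢
    exact v_fx_le (by omega) hp hf hF hb hbp
  · exact v_fx_fld_le hn hp hF hσ hb hb2

end Field

end Cfsg.Agent.H889.PDL
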