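import Mathlib
import Cfsg.Agent.Lib.Zsigmondy

/-!
# S4246, row `PSL_n(q)` (helper889): numbers

* `v_lt` : `t` prime, `t ∣ p ^ m - 1`: `v_t(m) < v_t(p ^ m - 1)`;
* `RP p f n k r` : the primes `r` (primitive for `q ^ k - 1`, `q = p ^ f`); existence `exists_rp`, `exists_rp'`.
-/

set_option autoImplicit false

namespace Cfsg.Agent.H889.PDL

open Cfsg.Agent.Lib.Zsigmondy

/-- `t ∣ p ^ m - 1` implies `v_t(m) < v_t(p ^ m - 1)` -/
theorem v_lt {t p m : ℕ} (ht : t.Prime) (hp : 2 ≤ p) (hm : m ≠ 0) (h : t ∣ p ^ m - 1) :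
    m.factorization t < (p ^ m - 1).factorization t := by
  have hft : Fact t.Prime := ⟨ht⟩
  have hpm : 1 < p ^ m := Nat.one_lt_pow hm (by omega)
  have h0 : p ^ m - 1 ≠ 0 := by omega
  rw [← Nat.succ_le_iff, Nat.succ_eq_add_one, ← ht.pow_dvd_iff_le_factorization h0]
  set a := m.factorization t with ha
  obtain ⟨m', hm'⟩ : ∃ m', m = t ^ a * m' := Nat.ordProj_dvd m t
  have h1 : ((p : ZMod t) ^ m') = 1 := by
    have h2 : ((p ^ m - 1 : ℕ) : ZMod t) = 0 := (ZMod.natCast_eq_zero_iff _ _).2 h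
    rw [Nat.cast_sub hpm.le, Nat.cast_pow, Nat.cast_one, sub_eq_zero, hm', mul_comm, pow_mul,
      ZMod.pow_card_pow] at h2
    exact h2
  have h2 : (t : ℤ) ∣ (p : ℤ) ^ m' - 1 := by
    rw [← ZMod.intCast_zmod_eq_zero_iff_dvd]
    push_cast
    rw [h1, sub_self]
  have h3 := dvd_sub_pow_of_dvd_sub h2 a
  rw [one_pow, ← pow_mul, mul_comm m', ← hm'] at h3
  have h4 : ((t ^ (a + 1) : ℕ) : ℤ) ∣ ((p ^ m - 1 : ℕ) : ℤ) := by
    rw [Nat.cast_sub hpm.le]
    push_cast
    exact_mod_cast h3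
  exact_mod_cast h4

/-- divisibility version with a factor -/
theorem v_lt' {t p f j : ℕ} (ht : t.Prime) (hp : 2 ≤ p) (hf : f ≠ 0) (hj : j ≠ 0) (h : t ∣ (p ^ f) ^ j - 1) :
    f.factorization t < ((p ^ f) ^ j - 1).factorization t := by
  rw [← pow_mul] at h ⊢
  refine lt_of_le_of_lt ?_ (v_lt ht hp (mul_ne_zero hf hj) h)
  exact (Nat.factorization_le_iff_dvd hf (mul_ne_zero hf hj)).2 (dvd_mul_right f j) t

/-- for `t = 2`, `q` odd: `v_2(2 f) < v_2(q ^ 2 - 1)` -/
theorem v_two {p f : ℕ} (hp : 2 ≤ p) (hp2 : ¬ 2 ∣ p) (hf : f ≠ 0) :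
    (2 * f).factorization 2 < ((p ^ f) ^ 2 - 1).factorization 2 := by
  rw [← pow_mul, mul_comm f 2]
  refine v_lt Nat.prime_two hp (by omega) ?_
  have h1 : Odd (p ^ (2 * f)) := (Nat.odd_iff.2 (by omega)).pow
  obtain ⟨k, hk⟩ := h1
  rw [hk, Nat.add_sub_cancel]
  exact dvd_mul_right 2 k

/-- The primes: `r` is primitive for `q ^ k - 1`, `q = p ^ f`. -/
structure RP (p f n k r : ℕ) : Prop where
  pr : r.Prime
  ord : ∀ j, r ∣ (p ^ f) ^ j - 1 ↔ k ∣ j
  low : ∃ E, (∀ m, m ≠ 0 → r ∣ p ^ m - 1 → E ≤ m) ∧ f * n < 3 * E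
  ndf : ¬ r ∣ f
  gt : n < r
  ndp : ¬ r ∣ p

theorem rp_of_primitive {p f n k r : ℕ} (hf : 1 ≤ f) (hk : 1 ≤ k) (hnk : n < 3 * k) (hr : r.Prime)
    (h : ∀ m, r ∣ p ^ m - 1 ↔ f * k ∣ m) (hd : f * k ∣ r - 1) (hp : ¬ r ∣ p) (hn : n < r) : RP p f n k r where
  pr := hr
  ord := fun j => by
    rw [← pow_mul, h]
    exact Nat.mul_dvd_mul_iff_left (by omega)
  low := ⟨f * k, fun m hm hd' => Nat.le_of_dvd (Nat.pos_of_ne_zero hm) ((h m).1 hd'), by
    have : 0 < f := hf
    nlinarith⟩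
  ndf := fun h1 => by
    have h2 := Nat.le_of_dvd (by omega) h1
    have h3 := hr.two_le
    have h4 := Nat.le_of_dvd (by omega) hd
    have h5 : f * 1 ≤ f * k := Nat.mul_le_mul_left _ hk
    omega
  gt := hn
  ndp := hp

/-- existence, `k = n` -/
theorem exists_rp {p f n : ℕ} (hp : p.Prime) (hf : 1 ≤ f) (hn : 3 ≤ n) (h6 : ¬ (p = 2 ∧ f = 1 ∧ n = 6)) :
    ∃ r, RP p f n n r := by
  by_cases h1 : p = 2 ∧ f * n = 6
  · obtain ⟨rfl, h2⟩ := h1
    have hn3 : n = 3 := by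
      have h3 : n ∣ 6 := ⟨f, by rw [mul_comm]; exact h2.symm⟩
      have h4 := Nat.le_of_dvd (by norm_num) h3
      interval_cases n
      · rfl
      · omega
      · omega
      · exfalso; exact h6 ⟨rfl, by omega, rfl⟩
    subst hn3
    have hf2 : f = 2 := by omega
    subst hf2
    refine ⟨7, by norm_num, ?_, ⟨3, ?_, by norm_num⟩, by norm_num, by norm_num, by norm_num⟩
    · intro j
      rw [dvd_pow_sub_one_iff (by norm_num)]
      have : orderOf ((2 ^ 2 : ℕ) : ZMod 7) = 3 := by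
        refine orderOf_eq_prime ?_ ?_
        · decide
        · decide
      rw [this]
    · intro m hm h
      by_contra hlt
      push Not at hlt
      interval_cases m
      · exact hm rfl
      · revert h; norm_num
      · revert h; norm_num
  · have h4 : 3 ≤ f * n := by
      calc 3 = 1 * 3 := rfl
        _ ≤ f * n := Nat.mul_le_mul hf hn
    obtain ⟨r, hr, hm, hd, hrp⟩ := exists_primitive (a := p) (n := f * n) hp.two_le (by omega)
      (fun h => by omega) (fun h => h1 h)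
    have h5 : 1 * n ≤ f * n := Nat.mul_le_mul_right _ hf
    have h6 := Nat.le_of_dvd (by have := hr.two_le; omega) hd
    exact ⟨r, rp_of_primitive hf (by omega) (by omega) hr hm hd hrp (by have := hr.two_le; omega)⟩

/-- existence, `k = n - 1`, `n` not prime -/
theorem exists_rp' {p f n : ℕ} (hp : p.Prime) (hf : 1 ≤ f) (hn : 4 ≤ n) (hnp : ¬ n.Prime) :
    ∃ r, RP p f n (n - 1) r := by
  by_cases h1 : p = 2 ∧ f * (n - 1) = 6
  · obtain ⟨rfl, h2⟩ := h1
    have hn3 : n = 4 := by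
      have h3 : n - 1 ∣ 6 := ⟨f, by rw [mul_comm]; exact h2.symm⟩
      have h4 := Nat.le_of_dvd (by norm_num) h3
      have h5 : n ≤ 7 := by omega
      interval_cases n
      · rfl
      · omega
      · omega
      · exfalso; exact hnp (by norm_num)
    subst hn3
    have hf2 : f = 2 := by omega
    subst hf2
    refine ⟨7, by norm_num, ?_, ⟨3, ?_, by norm_num⟩, by norm_num, by norm_num, by norm_num⟩
    · intro j
      rw [dvd_pow_sub_one_iff (by norm_num)]
      have : orderOf ((2 ^ 2 : ℕ) : ZMod 7) = 3 := by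
        refine orderOf_eq_prime ?_ ?_
        · decide
        · decide
      rw [this]
    · intro m hm h
      by_contra hlt
      push Not at hlt
      interval_cases m
      · exact hm rfl
      · revert h; norm_num
      · revert h; norm_num
  · have h4 : 3 ≤ f * (n - 1) := by
      calc 3 = 1 * 3 := rfl
        _ ≤ f * (n - 1) := Nat.mul_le_mul hf (by omega)
    obtain ⟨r, hr, hm, hd, hrp⟩ := exists_primitive (a := p) (n := f * (n - 1)) hp.two_le (by omega)
      (fun h => by omega) (fun h => h1 h)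
    have h5 : 1 * (n - 1) ≤ f * (n - 1) := Nat.mul_le_mul_right _ hf
    have h6 := Nat.le_of_dvd (by have := hr.two_le; omega) hd
    have h7 := hr.two_le
    have h8 : r ≠ n := by
      rintro rfl
      exact hnp hr
    exact ⟨r, rp_of_primitive hf (by omega) (by omega) hr hm hd hrp (by omega)⟩

/-- `L_6(2)` -/
theorem rp_six : RP 2 1 6 5 31 := by
  refine ⟨by norm_num, ?_, ⟨5, ?_, by norm_num⟩, by norm_num, by norm_num, by norm_num⟩
  · intro j
    rw [dvd_pow_sub_one_iff (by norm_num)]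
    have : orderOf ((2 ^ 1 : ℕ) : ZMod 31) = 5 := by
      have : Fact (Nat.Prime 5) := ⟨by norm_num⟩
      refine orderOf_eq_prime ?_ ?_
      · decide
      · decide
    rw [this]
  · intro m hm h
    by_contra hlt
    push Not at hlt
    interval_cases m
    · exact hm rfl
    · revert h; norm_num
    · revert h; norm_num
    · revert h; norm_num
    · revert h; norm_num

theorem two_mul_lt_three_pow (a : ℕ) : 2 * a + 1 ≤ 3 ^ a := by
  induction a with
  | zero => norm_num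
  | succ a ih =>
    rw [pow_succ]
    omega

/-- `p ^ a ≤ x`, `p ≥ 3`: `2 a + 1 ≤ x` -/
theorem two_mul_lt_of_pow_le {p a x : ℕ} (hp : 3 ≤ p) (h : p ^ a ≤ x) : 2 * a + 1 ≤ x :=
  (two_mul_lt_three_pow a).trans ((Nat.pow_le_pow_left hp a).trans h)

theorem v_two_mul_le {p f : ℕ} (hp : p.Prime) (hf : 1 ≤ f) : (2 * f).factorization p ≤ f := by
  have h1 : p ^ (2 * f).factorization p ≤ 2 * f := Nat.le_of_dvd (by omega) (Nat.ordProj_dvd _ _)
  set v := (2 * f).factorization p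
  by_contra hlt
  push Not at hlt
  have h2 : 2 ^ v ≤ 2 * f := (Nat.pow_le_pow_left hp.two_le v).trans h1
  obtain ⟨w, hw⟩ : ∃ w, v = w + 1 := ⟨v - 1, by omega⟩
  rw [hw, pow_succ] at h2
  have h3 : w < 2 ^ w := Nat.lt_two_pow_self
  omega

theorem v_two_mul_odd {p f : ℕ} (hp : p.Prime) (hp2 : p ≠ 2) (hf : 1 ≤ f) :
    2 * (2 * f).factorization p + 1 ≤ f := by
  have h0 : (2 * f).factorization p = f.factorization p := by
    rw [Nat.factorization_mul (by norm_num) (by omega), Finsupp.add_apply,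
      Nat.factorization_eq_zero_of_not_dvd (n := 2), zero_add]
    intro h
    exact hp2 ((Nat.prime_dvd_prime_iff_eq hp Nat.prime_two).1 h)
  rw [h0]
  refine two_mul_lt_of_pow_le (p := p) ?_ (Nat.le_of_dvd (by omega) (Nat.ordProj_dvd f p))
  have := hp.two_le
  omega

/-- `e ≤ x`: `2 v_p(e) + 1 ≤ x` -/
theorem v_le_odd {p e x : ℕ} (hp : p.Prime) (hp2 : p ≠ 2) (he : e ≠ 0) (hx : e ≤ x) :
    2 * e.factorization p + 1 ≤ x := by
  refine two_mul_lt_of_pow_le (p := p) ?_ ((Nat.le_of_dvd (Nat.pos_of_ne_zero he) (Nat.ordProj_dvd e p)).trans hx)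
  have := hp.two_le
  omega

theorem not_dvd_pow_sub {p q j : ℕ} (hp : p.Prime) (hpq : p ∣ q) (hq : 1 ≤ q) (hj : j ≠ 0) : ¬ p ∣ q ^ j - 1 := by
  intro h
  have h1 : p ∣ q ^ j := hpq.trans (dvd_pow_self _ hj)
  have h2 : 1 ≤ q ^ j := Nat.one_le_pow _ _ hq
  have h3 := Nat.dvd_sub h1 h
  rw [Nat.sub_sub_self h2] at h3
  exact hp.one_lt.ne' (Nat.dvd_one.1 h3)

/-- the exponents -/
theorem tri_le {a b n : ℕ} (h : a + b = n) (ha : 1 ≤ a) (hb : 1 ≤ b) :
    a * (a - 1) / 2 + b * (b - 1) / 2 ≤ (n - 1) * (n - 2) / 2 := by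
  obtain ⟨x, rfl⟩ : ∃ x, a = x + 1 := ⟨a - 1, by omega⟩
  obtain ⟨y, rfl⟩ : ∃ y, b = y + 1 := ⟨b - 1, by omega⟩
  subst h
  have e1 : x + 1 + (y + 1) - 1 = x + y + 1 := by omega
  have e2 : x + 1 + (y + 1) - 2 = x + y := by omega
  rw [e1, e2, Nat.add_sub_cancel, Nat.add_sub_cancel]
  have h1 : 2 ∣ (x + 1) * x := by
    rw [mul_comm]; exact even_iff_two_dvd.1 (Nat.even_mul_succ_self x)
  have h2 : 2 ∣ (y + 1) * y := by
    rw [mul_comm]; exact even_iff_two_dvd.1 (Nat.even_mul_succ_self y)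
  have h3 : (x + 1) * x + (y + 1) * y ≤ (x + y + 1) * (x + y) := by nlinarith [Nat.zero_le (x * y)]
  omega

end Cfsg.Agent.H889.PDL
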