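import Cfsg.Agent.H889.PDL.Basic
import Cfsg.Agent.H889.PDL.Num
import Cfsg.Agent.H23.FreeAct

/-!
# S4246, row `PSL_n(q)` (helper889): centralisers and normalisers of the elements of primitive prime order
-/

set_option autoImplicit false
set_option linter.unusedSectionVars false

namespace Cfsg.Agent.H889.PDL

open Matrix Module Subgroup Cfsg.Agent.H160.PD
open Cfsg.Agent.ClassicalGeometry.AutPSL.Root
open Cfsg.Agent.ClassicalGeometry.AutPSL.Auto
open Cfsg.Agent.H999.RowPSL (ker_pr Prim finrank_fixed irred)
open Cfsg.Agent.LieExceptional.SingerCentralizer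

section Free

variable {F : Type*} [Field F] [Finite F] {V : Type*} [AddCommGroup V] [Module F V] [Module.Finite F V]

/-- a group of linear maps acting freely on the non-zero vectors -/
theorem card_dvd_of_free_lin {C : Type*} [Group C] [Finite C] (ρ : C →* Module.End F V)
    (h : ∀ (c : C) (v : V), v ≠ 0 → ρ c v = v → c = 1) : Nat.card C ∣ Nat.card F ^ finrank F V - 1 := by
  classical
  have : Finite V := Module.finite_of_finite F
  have hinv : ∀ (c : C) (v : V), ρ c⁻¹ (ρ c v) = v := by
    intro c v
    rw [← Module.End.mul_apply, ← map_mul, inv_mul_cancel, map_one, Module.End.one_apply]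
  let act : MulAction C {v : V // v ≠ 0} :=
    { smul := fun c v => ⟨ρ c v.1, fun h0 => v.2 (by
        have h1 := hinv c v.1
        rw [h0, map_zero] at h1
        exact h1.symm)⟩
      one_smul := fun v => by
        apply Subtype.ext
        show ρ 1 v.1 = v.1
        rw [map_one, Module.End.one_apply]
      mul_smul := fun c d v => by
        apply Subtype.ext
        show ρ (c * d) v.1 = ρ c (ρ d v.1)
        rw [map_mul, Module.End.mul_apply] }
  have h1 := H23.FreeAct.card_dvd_of_free (D := C) (α := {v : V // v ≠ 0}) fun c v hcv =>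
    h c v.1 v.2 (congrArg Subtype.val hcv)
  have h2 : Nat.card {v : V // v ≠ 0} = Nat.card F ^ finrank F V - 1 := by
    rw [← Module.natCard_eq_pow_finrank (K := F) (V := V)]
    have : Fintype V := Fintype.ofFinite V
    rw [Nat.card_eq_fintype_card, Nat.card_eq_fintype_card, Fintype.card_subtype_compl, Fintype.card_subtype_eq]
  rwa [h2] at h1

end Free

section Sit

variable {F : Type*} [Field F] [Fintype F] {n : ℕ}

/-- the natural representation -/
def act : Matrix.SpecialLinearGroup (Fin n) F →* Module.End F (Fin n → F) where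
  toFun g := toLin' g.1
  map_one' := toLin'_one
  map_mul' := fun _ _ => toLin'_mul _ _

theorem act_apply (g : Matrix.SpecialLinearGroup (Fin n) F) (v : Fin n → F) : act g v = g.1 *ᵥ v := rfl

theorem act_injective : Function.Injective (act : Matrix.SpecialLinearGroup (Fin n) F →* _) := by
  intro a b h
  exact Subtype.ext (toLin'.injective h)

/-- `W` is a faithful submodule for the normaliser of `⟨g⟩` -/
structure Sit (g : Matrix.SpecialLinearGroup (Fin n) F) (W : Submodule F (Fin n → F)) (r m : ℕ) : Prop where
  ord : orderOf g = r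
  prim : Prim (Nat.card F) r m
  inv : ∀ y ∈ normalizer ((zpowers g : Subgroup _) : Set (Matrix.SpecialLinearGroup (Fin n) F)), ∀ w ∈ W, act y w ∈ W
  faith : ∀ y ∈ normalizer ((zpowers g : Subgroup _) : Set (Matrix.SpecialLinearGroup (Fin n) F)),
    (∀ w ∈ W, act y w = w) → y = 1
  dim : finrank F W = m

namespace Sit

variable {g : Matrix.SpecialLinearGroup (Fin n) F} {W : Submodule F (Fin n → F)} {r m : ℕ}

/-- the representation of the normaliser -/
def rep (h : Sit g W r m) :
    normalizer ((zpowers g : Subgroup _) : Set (Matrix.SpecialLinearGroup (Fin n) F)) →* Module.End F W where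
  toFun y := (act (y : Matrix.SpecialLinearGroup (Fin n) F)).restrict (h.inv y y.2)
  map_one' := by
    ext w
    show (act 1 (w : Fin n → F)) _ = _
    rw [map_one]
    rfl
  map_mul' := fun a b => by
    ext w
    show (act ((a : Matrix.SpecialLinearGroup (Fin n) F) * (b : Matrix.SpecialLinearGroup (Fin n) F))
      (w : Fin n → F)) _ = _
    rw [map_mul]
    rfl

theorem rep_injective (h : Sit g W r m) : Function.Injective h.rep := by
  rw [injective_iff_map_eq_one]
  intro y hy
  apply Subtype.ext
  refine h.faith y y.2 fun w hw => ?_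
  have h1 := congrArg (fun t : Module.End F W => ((t ⟨w, hw⟩ : W) : Fin n → F)) hy
  exact h1

theorem mem_norm (g : Matrix.SpecialLinearGroup (Fin n) F) :
    g ∈ normalizer ((zpowers g : Subgroup _) : Set (Matrix.SpecialLinearGroup (Fin n) F)) :=
  le_normalizer (mem_zpowers g)

theorem centralizer_le (g : Matrix.SpecialLinearGroup (Fin n) F) :
    centralizer {g} ≤ normalizer ((zpowers g : Subgroup _) : Set (Matrix.SpecialLinearGroup (Fin n) F)) := by
  intro y hy
  rw [mem_centralizer_singleton_iff] at hy
  apply centralizer_le_normalizer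
  rw [mem_centralizer_iff]
  rintro _ ⟨k, rfl⟩
  exact ((Commute.zpow_right (show Commute y g from hy) k).symm).eq

/-- the element in its normaliser -/
def el (g : Matrix.SpecialLinearGroup (Fin n) F) :
    normalizer ((zpowers g : Subgroup _) : Set (Matrix.SpecialLinearGroup (Fin n) F)) := ⟨g, mem_norm g⟩

theorem orderOf_el (h : Sit g W r m) : orderOf (el g) = r := by
  rw [el, Subgroup.orderOf_mk, h.ord]

/-- the centralisers agree -/
def centEquiv (g : Matrix.SpecialLinearGroup (Fin n) F) : centralizer {el g} ≃* centralizer {g} where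
  toFun y := ⟨(y.1 : Matrix.SpecialLinearGroup (Fin n) F), by
    have h1 := mem_centralizer_singleton_iff.1 y.2
    rw [mem_centralizer_singleton_iff]
    exact congrArg Subtype.val h1⟩
  invFun y := ⟨⟨y.1, centralizer_le g y.2⟩, by
    have h1 := mem_centralizer_singleton_iff.1 y.2
    rw [mem_centralizer_singleton_iff]
    exact Subtype.ext h1⟩
  left_inv _ := rfl
  right_inv _ := rfl
  map_mul' _ _ := rfl

theorem prim' (h : Sit g W r m) : (r ∣ Nat.card F ^ finrank F W - 1) ∧
    ∀ d, 0 < d → d < finrank F W → ¬ r ∣ Nat.card F ^ d - 1 := by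
  rw [h.dim]
  exact ⟨h.prim.dvd, h.prim.ndvd⟩

theorem isCyclic (h : Sit g W r m) : IsCyclic (centralizer {g} : Subgroup (Matrix.SpecialLinearGroup (Fin n) F)) := by
  have h1 := isCyclic_centralizer h.rep h.rep_injective h.prim.pr h.orderOf_el h.prim'.1 h.prim'.2
  exact isCyclic_of_surjective (centEquiv g).toMonoidHom (centEquiv g).surjective

theorem card_cent_dvd (h : Sit g W r m) :
    Nat.card (centralizer {g} : Subgroup (Matrix.SpecialLinearGroup (Fin n) F)) ∣ Nat.card F ^ m - 1 := by
  rw [← Nat.card_congr (centEquiv g).toEquiv]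
  have h0 := card_dvd_of_free_lin (h.rep.comp (centralizer {el g}).subtype) ?_
  · rwa [h.dim] at h0
  · intro c v hv hcv
    have hg0 : el g ^ r = 1 := orderOf_dvd_iff_pow_eq_one.1 (dvd_of_eq h.orderOf_el)
    have hg1 : h.rep (el g) ^ r = 1 := by rw [← map_pow, hg0, map_one]
    have hg2 : h.rep (el g) ≠ 1 := by
      intro h1
      have h2 : el g = 1 := h.rep_injective (by rw [h1, map_one])
      have h3 := h.orderOf_el
      rw [h2, orderOf_one] at h3
      exact h.prim.pr.one_lt.ne h3
    by_contra hc
    have h1 : h.rep c.1 - 1 ≠ 0 := by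
      intro h2
      apply hc
      apply Subtype.ext
      apply h.rep_injective
      have h3 : h.rep c.1 = 1 := sub_eq_zero.1 h2
      rw [h3, OneMemClass.coe_one, map_one]
    have h2 : Commute (h.rep c.1 - 1) (h.rep (el g)) := by
      have h3 := mem_centralizer_singleton_iff.1 c.2
      have h4 : Commute (h.rep c.1) (h.rep (el g)) := by
        show h.rep c.1 * h.rep (el g) = h.rep (el g) * h.rep c.1
        rw [← map_mul, ← map_mul, h3]
      refine LinearMap.ext fun w => ?_
      have h5 : h.rep c.1 (h.rep (el g) w) = h.rep (el g) (h.rep c.1 w) := LinearMap.congr_fun h4.eq w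
      show h.rep c.1 (h.rep (el g) w) - h.rep (el g) w = h.rep (el g) (h.rep c.1 w - w)
      rw [map_sub, h5]
    have h3 := injective_of_commute h.prim.pr hg1 hg2 h.prim'.1 h.prim'.2 h2 h1
    apply hv
    apply h3
    rw [map_zero, LinearMap.sub_apply, Module.End.one_apply, sub_eq_zero]
    exact hcv

theorem card_norm_le (h : Sit g W r m) :
    Nat.card (normalizer ((zpowers g : Subgroup _) : Set (Matrix.SpecialLinearGroup (Fin n) F))) ≤
      m * Nat.card (centralizer {g} : Subgroup (Matrix.SpecialLinearGroup (Fin n) F)) := by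
  have h1 := card_normalizer_centralizer_le h.rep h.rep_injective h.prim.pr h.orderOf_el h.prim'.1 h.prim'.2
  rw [h.dim, Nat.card_congr (centEquiv g).toEquiv] at h1
  have h2 : normalizer ((centralizer {el g} : Subgroup _) :
      Set (normalizer ((zpowers g : Subgroup _) : Set (Matrix.SpecialLinearGroup (Fin n) F)))) = ⊤ := by
    have key : ∀ y c : normalizer ((zpowers g : Subgroup _) : Set (Matrix.SpecialLinearGroup (Fin n) F)),
        c ∈ centralizer {el g} → y * c * y⁻¹ ∈ centralizer {el g} := by
      intro y c hc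
      rw [mem_centralizer_singleton_iff] at hc ⊢
      -- `y⁻¹ g y` is a power of `g`
      have h3 : (y : Matrix.SpecialLinearGroup (Fin n) F)⁻¹ * g * y ∈ zpowers g := by
        have h4 := (mem_normalizer_iff.1 (inv_mem y.2) g).1 (mem_zpowers g)
        rwa [inv_inv] at h4
      obtain ⟨k, hk⟩ := h3
      have h5 : y⁻¹ * el g * y = el g ^ k := Subtype.ext (by
        show (y : Matrix.SpecialLinearGroup (Fin n) F)⁻¹ * g * y = ((el g ^ k : _) : Matrix.SpecialLinearGroup (Fin n) F)
        rw [← hk]
        rfl)
      have h6 : Commute c (y⁻¹ * el g * y) := by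
        rw [h5]
        exact Commute.zpow_right (show Commute c (el g) from hc) k
      have h7 : c * (y⁻¹ * el g * y) = (y⁻¹ * el g * y) * c := h6
      calc y * c * y⁻¹ * el g = y * (c * (y⁻¹ * el g * y)) * y⁻¹ := by group
        _ = y * ((y⁻¹ * el g * y) * c) * y⁻¹ := by rw [h7]
        _ = el g * (y * c * y⁻¹) := by group
    rw [eq_top_iff]
    intro y _
    rw [mem_normalizer_iff]
    intro c
    refine ⟨key y c, fun hc => ?_⟩
    have h3 := key y⁻¹ _ hc
    have h4 : y⁻¹ * (y * c * y⁻¹) * y⁻¹⁻¹ = c := by group
    rwa [h4] at h3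
  rw [h2, Nat.card_congr Subgroup.topEquiv.toEquiv] at h1
  exact h1

end Sit

end Sit

end Cfsg.Agent.H889.PDL
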