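import Cfsg.Agent.H889.PDL.Fld

/-!
# S4246, row `PSL_n(q)` (helper889): `p`-subgroups normalised by an element of order primitive for `q ^ (n - 1) - 1`
-/

set_option autoImplicit false
set_option linter.unusedSectionVars false

namespace Cfsg.Agent.H889.PDL

open Matrix Module Subgroup Cfsg.Agent.H160.PD
open Cfsg.Agent.ClassicalGeometry.AutPSL.Root
open Cfsg.Agent.ClassicalGeometry.AutPSL.Auto
open Cfsg.Agent.LieExceptional.SingerCentralizer
open Cfsg.Agent.H999.RowPSL (ker_pr Prim exists_plift)

/-- fixed vectors of `p`-groups in characteristic `p` -/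
theorem exists_fixed {F : Type*} [Field F] [Finite F] {V : Type*} [AddCommGroup V] [Module F V] [Module.Finite F V]
    [Nontrivial V] {P : Type*} [Group P] [Finite P] {p : ℕ} [hp : Fact p.Prime] (hP : IsPGroup p P)
    (hpF : p ∣ Nat.card F) (ρ : P →* Module.End F V) : ∃ v : V, v ≠ 0 ∧ ∀ y, ρ y v = v := by
  have hV : Finite V := Module.finite_of_finite F
  let act : MulAction P V :=
    { smul := fun y v => ρ y v
      one_smul := fun v => by
        show ρ 1 v = v
        rw [map_one]; rfl
      mul_smul := fun x y v => by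
        show ρ (x * y) v = ρ x (ρ y v)
        rw [map_mul]; rfl }
  have h1 : p ∣ Nat.card V := by
    rw [Module.natCard_eq_pow_finrank (K := F)]
    exact dvd_pow hpF (Module.finrank_pos).ne'
  have h2 : (0 : V) ∈ MulAction.fixedPoints P V := fun y => map_zero (ρ y)
  obtain ⟨b, hb, hb0⟩ := hP.exists_fixed_point_of_prime_dvd_card_of_fixed_point V h1 h2
  exact ⟨b, hb0.symm, fun y => hb y⟩

section

variable {F : Type*} [Field F] [Fintype F] {n : ℕ} {g : Matrix.SpecialLinearGroup (Fin n) F} {r : ℕ}

/-- the dimensions of the invariant subspaces -/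
theorem dims (hn : 3 ≤ n) (ho : orderOf g = r) (h : Prim (Nat.card F) r (n - 1))
    (hord : ∀ j, r ∣ Nat.card F ^ j - 1 → (n - 1) ∣ j) (M : Submodule F (Fin n → F)) (hM : ∀ w ∈ M, act g w ∈ M) :
    (M ⊓ LinearMap.ker (act g - 1) = ⊥ ∧ (finrank F M = 0 ∨ finrank F M = n - 1)) ∨
      (LinearMap.ker (act g - 1) ≤ M ∧ (finrank F M = 1 ∨ finrank F M = n)) := by
  have hfr : Fact r.Prime := ⟨h.pr⟩
  obtain ⟨h1, h2, h3⟩ := disj hn ho h
  have h4 := card_modEq_fixed (F := F) (act g) (act_pow_order ho) M hM
  have h5 : finrank F ↥(M ⊓ LinearMap.ker (act g - 1)) ≤ 1 := by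
    rw [← h1]
    exact Submodule.finrank_mono inf_le_right
  have h6 : finrank F M ≤ n := by
    refine (Submodule.finrank_le _).trans ?_
    rw [finrank_fintype_fun_eq_card, Fintype.card_fin]
  have hmul : ∀ j, j ≤ n → (n - 1) ∣ j → j = 0 ∨ j = n - 1 := by
    rintro j hj ⟨c, rfl⟩
    rcases Nat.lt_or_ge c 2 with hc | hc
    · interval_cases c
      · left; simp
      · right; simp
    · exfalso
      have : (n - 1) * 2 ≤ (n - 1) * c := Nat.mul_le_mul_left _ hc
      omega
  rcases Nat.eq_zero_or_pos (finrank F ↥(M ⊓ LinearMap.ker (act g - 1))) with h7 | h7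
  · left
    refine ⟨Submodule.finrank_eq_zero.1 h7, ?_⟩
    rw [h7, pow_zero] at h4
    exact hmul _ h6 (hord _ ((Nat.modEq_iff_dvd' (Nat.one_le_pow _ _ Nat.card_pos)).1 h4.symm))
  · right
    have h8 : finrank F ↥(M ⊓ LinearMap.ker (act g - 1)) = 1 := by omega
    have h9 : LinearMap.ker (act g - 1) ≤ M := by
      have h10 : M ⊓ LinearMap.ker (act g - 1) = LinearMap.ker (act g - 1) :=
        Submodule.eq_of_le_of_finrank_eq inf_le_right (by rw [h8, h1])
      rw [← h10]
      exact inf_le_left
    refine ⟨h9, ?_⟩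
    have h10 : 1 ≤ finrank F M := by
      rw [← h1]
      exact Submodule.finrank_mono h9
    rw [h8, pow_one] at h4
    -- `q ^ d ≡ q`
    obtain ⟨d, hd⟩ : ∃ d, finrank F M = d + 1 := ⟨finrank F M - 1, by omega⟩
    rw [hd] at h4 ⊢
    have h11 : r ∣ Nat.card F ^ (d + 1) - Nat.card F :=
      (Nat.modEq_iff_dvd' (by
        calc Nat.card F = Nat.card F ^ 1 := (pow_one _).symm
          _ ≤ Nat.card F ^ (d + 1) := Nat.pow_le_pow_right Nat.card_pos (by omega))).1 h4.symm
    have h12 : Nat.card F ^ (d + 1) - Nat.card F = Nat.card F * (Nat.card F ^ d - 1) := by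
      rw [Nat.mul_sub, mul_one, pow_succ, mul_comm]
    rw [h12] at h11
    rcases h.pr.dvd_mul.1 h11 with h13 | h13
    · exact absurd h13 (h.not_dvd_base Nat.card_pos (by omega))
    · rcases hmul d (by omega) (hord _ h13) with h14 | h14 <;> omega

/-- **`p`-subgroups of `SL_n(q)` normalised by `g`** -/
theorem card_pgroup_le (hn : 3 ≤ n) {p : ℕ} [hp : Fact p.Prime] (hpF : p ∣ Nat.card F) (ho : orderOf g = r)
    (h : Prim (Nat.card F) r (n - 1)) (hord : ∀ j, r ∣ Nat.card F ^ j - 1 → (n - 1) ∣ j)
    (P : Subgroup (Matrix.SpecialLinearGroup (Fin n) F)) (hP : IsPGroup p P)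
    (hg : g ∈ normalizer (P : Set (Matrix.SpecialLinearGroup (Fin n) F))) : Nat.card P ≤ Nat.card F ^ (n - 1) := by
  classical
  have hne : Nonempty (Fin n) := ⟨⟨0, by omega⟩⟩
  have hnt : Nontrivial (Fin n → F) := inferInstance
  have hconj : ∀ y ∈ P, g⁻¹ * y * g ∈ P := fun y hy => by
    have := (mem_normalizer_iff.1 (inv_mem hg) y).1 hy
    rwa [inv_inv] at this
  let W : Submodule F (Fin n → F) :=
    { carrier := {v | ∀ y ∈ P, act y v = v}
      add_mem' := fun ha hb y hy => by rw [map_add, ha y hy, hb y hy]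
      zero_mem' := fun y _ => map_zero _
      smul_mem' := fun c v hv y hy => by rw [map_smul, hv y hy] }
  have hWg : ∀ w ∈ W, act g w ∈ W := by
    intro w hw y hy
    have h1 : y * g = g * (g⁻¹ * y * g) := by group
    rw [← act_mul, h1, act_mul, hw _ (hconj y hy)]
  have hW0 : W ≠ ⊥ := by
    obtain ⟨v, hv0, hv⟩ := exists_fixed hP hpF (act.comp P.subtype)
    intro h0
    have h1 : v ∈ W := fun y hy => hv ⟨y, hy⟩
    rw [h0, Submodule.mem_bot] at h1
    exact hv0 h1
  by_cases hWt : W = ⊤
  · have h1 : P = ⊥ := by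
      rw [eq_bot_iff]
      intro y hy
      rw [mem_bot]
      apply act_injective
      rw [map_one]
      refine LinearMap.ext fun v => ?_
      have hv : v ∈ W := hWt ▸ Submodule.mem_top
      exact hv y hy
    rw [h1, Subgroup.card_bot]
    exact Nat.one_le_pow _ _ Nat.card_pos
  -- the second layer
  let U : Submodule F (Fin n → F) :=
    { carrier := {v | ∀ y ∈ P, act y v - v ∈ W}
      add_mem' := fun {a b} ha hb y hy => by
        have h1 : act y (a + b) - (a + b) = (act y a - a) + (act y b - b) := by rw [map_add]; abel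
        rw [h1]
        exact add_mem (ha y hy) (hb y hy)
      zero_mem' := fun y _ => by rw [map_zero, sub_zero]; exact zero_mem _
      smul_mem' := fun c v hv y hy => by
        rw [map_smul, ← smul_sub]
        exact W.smul_mem c (hv y hy) }
  have hUg : ∀ w ∈ U, act g w ∈ U := by
    intro w hw y hy
    have h1 : y * g = g * (g⁻¹ * y * g) := by group
    rw [← act_mul, h1, act_mul, ← map_sub]
    exact hWg _ (hw _ (hconj y hy))
  have hWU : W ≤ U := by
    intro v hv y hy
    rw [hv y hy, sub_self]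
    exact zero_mem _
  have hWP : ∀ y : P, W ≤ W.comap (act (y : Matrix.SpecialLinearGroup (Fin n) F)) := by
    intro y w hw
    rw [Submodule.mem_comap, hw y y.2]
    exact hw
  have hlt : W < U := by
    refine lt_of_le_of_ne hWU fun heq => ?_
    have hnt' : Nontrivial ((Fin n → F) ⧸ W) := Submodule.Quotient.nontrivial_iff.2 hWt
    let ρ : P →* Module.End F ((Fin n → F) ⧸ W) :=
      { toFun := fun y => W.mapQ W (act (y : Matrix.SpecialLinearGroup (Fin n) F)) (hWP y)
        map_one' := by
          refine LinearMap.ext fun v => ?_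
          obtain ⟨v, rfl⟩ := Submodule.Quotient.mk_surjective W v
          show Submodule.Quotient.mk (act (1 : Matrix.SpecialLinearGroup (Fin n) F) v) = Submodule.Quotient.mk v
          rw [map_one]; rfl
        map_mul' := fun x y => by
          refine LinearMap.ext fun v => ?_
          obtain ⟨v, rfl⟩ := Submodule.Quotient.mk_surjective W v
          show Submodule.Quotient.mk (act ((x : Matrix.SpecialLinearGroup (Fin n) F) *
            (y : Matrix.SpecialLinearGroup (Fin n) F)) v) =
            Submodule.Quotient.mk (act (x : Matrix.SpecialLinearGroup (Fin n) F)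
              (act (y : Matrix.SpecialLinearGroup (Fin n) F) v))
          rw [act_mul] }
    obtain ⟨v, hv0, hv⟩ := exists_fixed hP hpF ρ
    obtain ⟨v, rfl⟩ := Submodule.Quotient.mk_surjective W v
    have h1 : v ∈ U := by
      intro y hy
      have h2 : (Submodule.Quotient.mk (act y v) : (Fin n → F) ⧸ W) = Submodule.Quotient.mk v := hv ⟨y, hy⟩
      rwa [← Submodule.Quotient.mk_eq_zero, Submodule.Quotient.mk_sub, sub_eq_zero]
    rw [← heq] at h1
    exact hv0 ((Submodule.Quotient.mk_eq_zero W).2 h1)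
  have hfn : finrank F (Fin n → F) = n := by rw [finrank_fintype_fun_eq_card, Fintype.card_fin]
  have hdlt := Submodule.finrank_lt_finrank_of_lt hlt
  have hW0' : finrank F W ≠ 0 := fun h0 => hW0 (Submodule.finrank_eq_zero.1 h0)
  have hWn : finrank F W < n := lt_of_lt_of_eq (Submodule.finrank_lt hWt) hfn
  have hUn : finrank F U ≤ n := (Submodule.finrank_le _).trans_eq hfn
  have hdW := dims hn ho h hord W hWg
  have hdU := dims hn ho h hord U hUg
  have hU : finrank F U = n := by
    rcases hdW with ⟨-, h1 | h1⟩ | ⟨h2, h1 | h1⟩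
    · exact absurd h1 hW0'
    · omega
    · rcases hdU with ⟨h3, -⟩ | ⟨-, h3 | h3⟩
      · exfalso
        obtain ⟨h4, -, -⟩ := disj hn ho h
        have h5 : LinearMap.ker (act g - 1) = ⊥ := by
          rw [eq_bot_iff, ← h3]
          exact le_inf (h2.trans hWU) le_rfl
        rw [h5, finrank_bot] at h4
        omega
      · omega
      · exact h3
    · omega
  have hUt : U = ⊤ := Submodule.eq_top_of_finrank_eq (by rw [hU, hfn])
  have hprod : finrank F ((Fin n → F) ⧸ W) * finrank F W = n - 1 := by
    have h1 := Submodule.finrank_quotient_add_finrank W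
    rw [hfn] at h1
    have h2 : finrank F W = 1 ∨ finrank F W = n - 1 := by
      rcases hdW with ⟨-, h1 | h1⟩ | ⟨-, h1 | h1⟩
      · exact absurd h1 hW0'
      · exact Or.inr h1
      · exact Or.inl h1
      · omega
    rcases h2 with h2 | h2
    · rw [h2] at h1 ⊢
      omega
    · have h3 : finrank F ((Fin n → F) ⧸ W) = 1 := by omega
      rw [h3, h2, one_mul]
  -- the embedding
  have hmem : ∀ (y : P) (v : Fin n → F),
      (act (y : Matrix.SpecialLinearGroup (Fin n) F) - LinearMap.id : Module.End F (Fin n → F)) v ∈ W := by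
    intro y v
    have hv : v ∈ U := hUt ▸ Submodule.mem_top
    exact hv y y.2
  let ψ : P → (((Fin n → F) ⧸ W) →ₗ[F] W) := fun y =>
    W.liftQ ((act (y : Matrix.SpecialLinearGroup (Fin n) F) - LinearMap.id : Module.End F (Fin n → F)).codRestrict W
      (hmem y)) (by
        intro w hw
        rw [LinearMap.mem_ker]
        apply Subtype.ext
        show act (y : Matrix.SpecialLinearGroup (Fin n) F) w - w = 0
        rw [hw y y.2, sub_self])
  have hψ : Function.Injective ψ := by
    intro x y hxy
    apply Subtype.ext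
    apply act_injective
    refine LinearMap.ext fun v => ?_
    have h1 := congrArg Subtype.val (LinearMap.congr_fun hxy (Submodule.Quotient.mk v))
    have h2 : act (x : Matrix.SpecialLinearGroup (Fin n) F) v - v = act (y : Matrix.SpecialLinearGroup (Fin n) F) v - v := h1
    exact sub_left_injective h2
  have hfin : Finite (((Fin n → F) ⧸ W) →ₗ[F] W) := Module.finite_of_finite F
  have hc := Nat.card_le_card_of_injective ψ hψ
  rwa [Module.natCard_eq_pow_finrank (K := F) (V := (((Fin n → F) ⧸ W) →ₗ[F] W)), Module.finrank_linearMap, hprod] at hc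

/-- **`p`-subgroups of `PSL_n(q)` normalised by an element of order `r`** -/
theorem v_pgroup_le (hn : 3 ≤ n) {p f : ℕ} (hp : p.Prime) (hf : 1 ≤ f) (hF : Nat.card F = p ^ f)
    (h : Prim (Nat.card F) r (n - 1)) (hord : ∀ j, r ∣ Nat.card F ^ j - 1 → (n - 1) ∣ j) (hrz : ¬ r ∣ zz n F)
    (X : Subgroup (PS n F)) (hX : IsPGroup p X) (x : PS n F) (hx : x ∈ normalizer (X : Set (PS n F)))
    (hxo : orderOf x = r) : v p X ≤ f * (n - 1) := by
  have hpf := Fact.mk hp
  have hpF : p ∣ Nat.card F := by rw [hF]; exact dvd_pow_self _ (by omega)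
  obtain ⟨P, hP, -, hsur, hnor⟩ := exists_plift (pr_surjective (ι := Fin n) (F := F)) (by rw [ker_pr]) hX
  obtain ⟨g, hgx, hg, -⟩ := exists_cent h.pr hrz hxo
  have h1 := card_pgroup_le hn hpF hg h hord P hP (hnor g (by rw [hgx]; exact hx))
  have h2 : Nat.card X ≤ Nat.card P := by
    have h3 : X ≤ P.map pr := by
      intro z hz
      obtain ⟨y, hy, hyz⟩ := hsur z hz
      exact ⟨y, hy, hyz⟩
    exact (Nat.le_of_dvd Nat.card_pos (card_dvd_of_le h3)).trans
      (Nat.le_of_dvd Nat.card_pos (Subgroup.card_map_dvd _ _))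
  obtain ⟨k, hk⟩ := IsPGroup.iff_card.1 hX
  have h3 : v p X = k := by
    unfold v
    rw [hk, hp.factorization_pow, Finsupp.single_eq_same]
  rw [h3]
  have h4 := h2.trans h1
  rw [hk, hF, ← pow_mul] at h4
  exact (Nat.pow_le_pow_iff_right hp.one_lt).1 h4

end

end Cfsg.Agent.H889.PDL
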