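import Cfsg.Agent.H889.PDL.PSub

/-!
# S4246, row `PSL_n(q)` (helper889): `n` prime, automorphisms commuting with an irreducible element
-/

set_option autoImplicit false
set_option linter.unusedSectionVars false

namespace Cfsg.Agent.H889.PDL

open Matrix Module Subgroup Polynomial Cfsg.Agent.H160.PD
open Cfsg.Agent.ClassicalGeometry.AutPSL.Root
open Cfsg.Agent.ClassicalGeometry.AutPSL.Auto
open Cfsg.Agent.H999.RowPSL (ker_pr Prim irred noNorm_of_irred injective_toGL)

/-- the degree of an irreducible polynomial annihilating a map divides the dimension -/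
theorem deg_dvd {F : Type*} [Field F] [Finite F] {V : Type*} [AddCommGroup V] [Module F V] [Module.Finite F V]
    (f : Module.End F V) {μ : F[X]} (hirr : Irreducible μ) (hμf : aeval f μ = 0) : μ.natDegree ∣ finrank F V := by
  have hfV : Finite V := Module.finite_of_finite F
  have : Fact (Irreducible μ) := ⟨hirr⟩
  have hmem : ∀ a ∈ Ideal.span {μ}, (aeval f : F[X] →ₐ[F] Module.End F V).toRingHom a = 0 := by
    intro a ha
    rw [Ideal.mem_span_singleton] at ha
    obtain ⟨b, rfl⟩ := ha
    show aeval f (μ * b) = 0
    rw [map_mul, hμf, zero_mul]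
  let φ : AdjoinRoot μ →+* Module.End F V := Ideal.Quotient.lift (Ideal.span {μ}) _ hmem
  let _ : Module (AdjoinRoot μ) V := Module.compHom V φ
  have hμ0 : μ ≠ 0 := hirr.ne_zero
  have hfinK : Module.Finite F (AdjoinRoot μ) := (AdjoinRoot.powerBasis hμ0).finite
  have : Finite (AdjoinRoot μ) := Module.finite_of_finite F
  have : Module.Finite (AdjoinRoot μ) V := Module.Finite.of_finite
  have hQ : Nat.card (AdjoinRoot μ) = Nat.card F ^ μ.natDegree := by
    rw [Module.natCard_eq_pow_finrank (K := F), (AdjoinRoot.powerBasis hμ0).finrank, AdjoinRoot.powerBasis_dim]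
  have h2 : Nat.card (AdjoinRoot μ) ^ finrank (AdjoinRoot μ) V = Nat.card F ^ finrank F V := by
    rw [← Module.natCard_eq_pow_finrank, ← Module.natCard_eq_pow_finrank]
  rw [hQ, ← pow_mul] at h2
  exact ⟨_, (Nat.pow_right_injective (Finite.one_lt_card (α := F)) h2).symm⟩

section

variable {F : Type*} [Field F] [Fintype F] {n : ℕ}

/-- `n` prime: a non-scalar element commuting with an irreducible one is irreducible -/
theorem irr_of_prime (hn : n.Prime) {f : Module.End F (Fin n → F)} (hns : ∀ c : F, f ≠ algebraMap F _ c)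
    {g : Module.End F (Fin n → F)} (hgf : g * f = f * g)
    (hirr : ∀ W : Submodule F (Fin n → F), (∀ w ∈ W, g w ∈ W) → W = ⊥ ∨ W = ⊤)
    (U : Submodule F (Fin n → F)) (hU : ∀ w ∈ U, f w ∈ U) : U = ⊥ ∨ U = ⊤ := by
  have hne : Nonempty (Fin n) := ⟨⟨0, hn.pos⟩⟩
  have hnt : Nontrivial (Module.End F (Fin n → F)) := inferInstance
  have hint : IsIntegral F f := Algebra.IsIntegral.isIntegral f
  have hμ0 : minpoly F f ≠ 0 := minpoly.ne_zero hint
  have hcm : ∀ a : F[X], g * (aeval f a) = (aeval f a) * g := by
    intro a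
    rw [Polynomial.aeval_eq_sum_range]
    exact (Commute.sum_right _ _ _ fun i _ => ((show Commute g f from hgf).pow_right i).smul_right _).eq
  have hinj : ∀ a : F[X], aeval f a ≠ 0 → LinearMap.ker (aeval f a) = ⊥ := by
    intro a ha
    refine (hirr _ fun w hw => ?_).resolve_right fun h => ha (LinearMap.ker_eq_top.1 h)
    rw [LinearMap.mem_ker] at hw ⊢
    rw [← Module.End.mul_apply, ← hcm, Module.End.mul_apply, hw, map_zero]
  have key : ∀ a b : F[X], minpoly F f = a * b → b ≠ 0 → aeval f b = 0 → IsUnit a := by
    intro a b hab hb0 hb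
    have h1 : a * b ∣ 1 * b := by
      rw [← hab, one_mul]
      exact minpoly.dvd F f hb
    exact isUnit_of_dvd_one ((mul_dvd_mul_iff_right hb0).1 h1)
  have hμ : Irreducible (minpoly F f) := by
    rw [irreducible_iff]
    refine ⟨minpoly.not_isUnit F f, fun a b hab => ?_⟩
    have ha0 : a ≠ 0 := by rintro rfl; rw [zero_mul] at hab; exact hμ0 hab
    have hb0 : b ≠ 0 := by rintro rfl; rw [mul_zero] at hab; exact hμ0 hab
    by_cases hb : aeval f b = 0
    · exact Or.inl (key a b hab hb0 hb)
    · right
      refine key b a (by rw [hab, mul_comm]) ha0 ?_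
      by_contra ha
      have h1 : aeval f a * aeval f b = 0 := by rw [← map_mul, ← hab, minpoly.aeval]
      apply hb
      refine LinearMap.ext fun v => ?_
      have h2 : aeval f a (aeval f b v) = 0 := LinearMap.congr_fun h1 v
      have h3 : aeval f b v ∈ LinearMap.ker (aeval f a) := h2
      rw [hinj a ha, Submodule.mem_bot] at h3
      exact h3
  have hfn : finrank F (Fin n → F) = n := by rw [finrank_fintype_fun_eq_card, Fintype.card_fin]
  have h1 := deg_dvd f hμ (minpoly.aeval F f)
  rw [hfn, Nat.dvd_prime hn] at h1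
  have hd : (minpoly F f).natDegree = n := by
    refine h1.resolve_left fun h2 => ?_
    obtain ⟨c, hc⟩ := minpoly.natDegree_eq_one_iff.1 h2
    exact hns c hc.symm
  -- the restriction
  have hres : aeval (f.restrict hU) (minpoly F f) = 0 := by
    have h2 : ∀ (a : F[X]) (u : U), ((aeval (f.restrict hU) a u : U) : Fin n → F) = aeval f a (u : Fin n → F) := by
      intro a u
      induction a using Polynomial.induction_on' with
      | add a b ha hb =>
        rw [map_add, map_add, LinearMap.add_apply, LinearMap.add_apply, Submodule.coe_add, ha, hb]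
      | monomial k c =>
        rw [Polynomial.aeval_monomial, Polynomial.aeval_monomial]
        have h3 : (((f.restrict hU) ^ k) u : Fin n → F) = (f ^ k) (u : Fin n → F) := by
          have h4 : ∀ k : ℕ, ∀ u : U, (((f.restrict hU) ^ k) u : Fin n → F) = (f ^ k) (u : Fin n → F) := by
            intro k
            induction k with
            | zero => intro u; rfl
            | succ k ih =>
              intro u
              rw [pow_succ, pow_succ, Module.End.mul_apply, Module.End.mul_apply, ih]
              rfl
          exact h4 k u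
        show c • ((((f.restrict hU) ^ k) u : U) : Fin n → F) = c • ((f ^ k) (u : Fin n → F))
        rw [h3]
    refine LinearMap.ext fun u => Subtype.ext ?_
    rw [h2, minpoly.aeval]
    rfl
  have h3 := deg_dvd (f.restrict hU) hμ hres
  rw [hd] at h3
  by_cases h0 : finrank F U = 0
  · exact Or.inl (Submodule.finrank_eq_zero.1 h0)
  · right
    apply Submodule.eq_top_of_finrank_eq
    apply le_antisymm (Submodule.finrank_le _)
    rw [hfn]
    exact Nat.le_of_dvd (Nat.pos_of_ne_zero h0) h3

theorem card_fx_dvd_prime (hn : n.Prime) {A : GL (Fin n) F} (hb : (orderOf (lift (cj A))).Prime)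
    {g : Matrix.SpecialLinearGroup (Fin n) F}
    (hirr : ∀ W : Submodule F (Fin n → F), (∀ w ∈ W, g.1 *ᵥ w ∈ W) → W = ⊥ ∨ W = ⊤)
    (hc : (A : Matrix (Fin n) (Fin n) F) * g.1 = g.1 * (A : Matrix (Fin n) (Fin n) F)) :
    Nat.card (Fx (cj A)) ∣ Nat.card F ^ n - 1 := by
  have hfn : finrank F (Fin n → F) = n := by rw [finrank_fintype_fun_eq_card, Fintype.card_fin]
  have h0 := card_dvd_of_free_lin (F := F) (act.comp (Fx (cj A)).subtype) ?_
  · rwa [hfn] at h0
  · intro y v hv hyv
    have hA := irr_of_prime hn (f := toLin' (A : Matrix (Fin n) (Fin n) F)) (fun c h => by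
        rw [← toLin_scalar] at h
        exact not_scalar hb (toLin'.injective h)) (g := toLin' g.1) (by
        show toLin' g.1 ∘ₗ toLin' (A : Matrix (Fin n) (Fin n) F) = toLin' (A : Matrix (Fin n) (Fin n) F) ∘ₗ toLin' g.1
        rw [← toLin'_mul, ← toLin'_mul, hc]) hirr
    let U : Submodule F (Fin n → F) :=
      { carrier := {v | act (y : Matrix.SpecialLinearGroup (Fin n) F) v = v}
        add_mem' := fun {a b} ha hb => by
          show act (y : Matrix.SpecialLinearGroup (Fin n) F) (a + b) = a + b
          rw [map_add, ha, hb]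
        zero_mem' := map_zero _
        smul_mem' := fun c w hw => by
          show act (y : Matrix.SpecialLinearGroup (Fin n) F) (c • w) = c • w
          rw [map_smul, hw] }
    have hUA : ∀ w ∈ U, toLin' (A : Matrix (Fin n) (Fin n) F) w ∈ U := by
      intro w hw
      have h1 := mem_fx_cj y.2
      show (y : Matrix.SpecialLinearGroup (Fin n) F).1 *ᵥ ((A : Matrix (Fin n) (Fin n) F) *ᵥ w) =
        (A : Matrix (Fin n) (Fin n) F) *ᵥ w
      rw [mulVec_mulVec, ← h1, ← mulVec_mulVec,
        (show (y : Matrix.SpecialLinearGroup (Fin n) F).1 *ᵥ w = w from hw)]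
    have hU : U = ⊤ := (hA U hUA).resolve_left fun h1 => by
      have h2 : v ∈ U := hyv
      rw [h1, Submodule.mem_bot] at h2
      exact hv h2
    apply Subtype.ext
    apply act_injective
    show act (y : Matrix.SpecialLinearGroup (Fin n) F) = act 1
    rw [map_one]
    refine LinearMap.ext fun w => ?_
    have hw : w ∈ U := hU ▸ Submodule.mem_top
    exact hw

end

end Cfsg.Agent.H889.PDL
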