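import Cfsg.Agent.H889.PDL.Aut

/-!
# S4246, row `PSL_n(q)` (helper889): `p`-groups commuting with a semisimple element
-/

set_option autoImplicit false
set_option linter.unusedSectionVars false

namespace Cfsg.Agent.H889.PDL

open Matrix Module Polynomial

section Gl

variable {K : Type*} [Field K] [Finite K] {V : Type*} [AddCommGroup V] [Module K V] [Module.Finite K V]
  {P : Type*} [Group P] [Finite P]

/-- `p`-groups of linear maps, `p` the characteristic -/
theorem card_le_gl {p : ℕ} [hp : Fact p.Prime] (hP : IsPGroup p P) (hpK : p ∣ Nat.card K)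
    (ρ : P →* Module.End K V) (hρ : Function.Injective ρ) :
    Nat.card P ≤ Nat.card K ^ (finrank K V * (finrank K V - 1) / 2) := by
  classical
  have : Fintype K := Fintype.ofFinite K
  let b := Module.finBasis K V
  let e : Module.End K V ≃ₐ[K] Matrix (Fin (finrank K V)) (Fin (finrank K V)) K := LinearMap.toMatrixAlgEquiv b
  let u : P →* GL (Fin (finrank K V)) K := ((e : Module.End K V →* _).comp ρ).toHomUnits
  have hu : Function.Injective u := by
    intro x y hxy
    have h1 := congrArg Units.val hxy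
    exact hρ (e.injective h1)
  have h1 : Nat.card P ∣ Nat.card (GL (Fin (finrank K V)) K) := Subgroup.card_dvd_of_injective u hu
  rw [Matrix.card_GL_field, H953.prod_sub_pow, Finset.sum_range_id] at h1
  obtain ⟨k, hk⟩ := IsPGroup.iff_card.1 hP
  rw [hk] at h1
  have h2 : Nat.Coprime (p ^ k) (∏ j ∈ Finset.Icc 1 (finrank K V), (Fintype.card K ^ j - 1)) := by
    apply Nat.Coprime.pow_left
    rw [Nat.Prime.coprime_iff_not_dvd hp.1]
    intro h3
    obtain ⟨j, hj, hd⟩ := (Nat.Prime.prime hp.1).exists_mem_finset_dvd h3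
    rw [Finset.mem_Icc] at hj
    rw [Nat.card_eq_fintype_card] at hpK
    exact not_dvd_pow_sub hp.1 hpK Fintype.card_pos (by omega) hd
  have h3 := h2.dvd_of_dvd_mul_right h1
  rw [← Nat.card_eq_fintype_card] at h3
  rw [hk]
  exact Nat.le_of_dvd (pow_pos Nat.card_pos _) h3

end Gl

section Homog

variable {F : Type*} [Field F] [Finite F] {V : Type*} [AddCommGroup V] [Module F V] [Module.Finite F V]
  {P : Type*} [Group P] [Finite P]

/-- the homogeneous case -/
theorem homog {p : ℕ} [hp : Fact p.Prime] (hP : IsPGroup p P) (hpF : p ∣ Nat.card F)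
    (ρ : P →* Module.End F V) (hρ : Function.Injective ρ) (f : Module.End F V) (hf : ∀ y, ρ y * f = f * ρ y)
    (hirr : Irreducible (minpoly F f)) (hns : ∀ c : F, f ≠ algebraMap F _ c) :
    Nat.card P ≤ Nat.card F ^ ((finrank F V - 1) * (finrank F V - 2) / 2) := by
  have hfV : Finite V := Module.finite_of_finite F
  have hnt : Nontrivial (Module.End F V) := by
    by_contra h
    rw [not_nontrivial_iff_subsingleton] at h
    exact hns 0 (Subsingleton.elim _ _)
  set μ := minpoly F f with hμ
  have : Fact (Irreducible μ) := ⟨hirr⟩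
  have hmem : ∀ a ∈ Ideal.span {μ}, (aeval f : F[X] →ₐ[F] Module.End F V).toRingHom a = 0 := by
    intro a ha
    rw [Ideal.mem_span_singleton] at ha
    obtain ⟨b, rfl⟩ := ha
    show aeval f (μ * b) = 0
    rw [map_mul, hμ, minpoly.aeval, zero_mul]
  let φ : AdjoinRoot μ →+* Module.End F V := Ideal.Quotient.lift (Ideal.span {μ}) _ hmem
  have hφ : ∀ a : F[X], φ (AdjoinRoot.mk μ a) = aeval f a := fun a => rfl
  let _ : Module (AdjoinRoot μ) V := Module.compHom V φ
  have hsm : ∀ (k : AdjoinRoot μ) (v : V), k • v = φ k v := fun _ _ => rfl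
  have hμ0 : μ ≠ 0 := hirr.ne_zero
  have hfinK : Module.Finite F (AdjoinRoot μ) := (AdjoinRoot.powerBasis hμ0).finite
  have : Finite (AdjoinRoot μ) := Module.finite_of_finite F
  have : Module.Finite (AdjoinRoot μ) V := Module.Finite.of_finite
  -- the representation over the field
  let ρ' : P →* Module.End (AdjoinRoot μ) V :=
    { toFun := fun y =>
        { toFun := fun v => ρ y v
          map_add' := fun v w => map_add _ v w
          map_smul' := fun k v => by
            obtain ⟨a, rfl⟩ := AdjoinRoot.mk_surjective k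
            rw [RingHom.id_apply, hsm, hsm, hφ, ← Module.End.mul_apply, ← Module.End.mul_apply]
            have h1 : Commute (ρ y) (aeval f a) := by
              rw [Polynomial.aeval_eq_sum_range]
              exact Commute.sum_right _ _ _ fun i _ => ((show Commute (ρ y) f from hf y).pow_right i).smul_right _
            rw [h1.eq] }
      map_one' := by
        refine LinearMap.ext fun v => ?_
        show ρ 1 v = v
        rw [map_one]; rfl
      map_mul' := fun x y => by
        refine LinearMap.ext fun v => ?_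
        show ρ (x * y) v = ρ x (ρ y v)
        rw [map_mul]; rfl }
  have hρ' : Function.Injective ρ' := by
    intro x y hxy
    apply hρ
    refine LinearMap.ext fun v => ?_
    exact LinearMap.congr_fun hxy v
  have hQ : Nat.card (AdjoinRoot μ) = Nat.card F ^ μ.natDegree := by
    rw [Module.natCard_eq_pow_finrank (K := F), (AdjoinRoot.powerBasis hμ0).finrank, AdjoinRoot.powerBasis_dim]
  have hdeg : 2 ≤ μ.natDegree := by
    by_contra hlt
    have h1 : μ.natDegree ≠ 0 := by
      intro h0
      have h2 := hirr.natDegree_pos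
      omega
    have h2 : μ.natDegree = 1 := by omega
    have h3 := minpoly.natDegree_eq_one_iff.1 h2
    obtain ⟨c, hc⟩ := h3
    exact hns c hc.symm
  have h1 := card_le_gl hP (by rw [hQ]; exact dvd_pow hpF (by omega)) ρ' hρ'
  have h2 : Nat.card (AdjoinRoot μ) ^ finrank (AdjoinRoot μ) V = Nat.card F ^ finrank F V := by
    rw [← Module.natCard_eq_pow_finrank, ← Module.natCard_eq_pow_finrank]
  set m := finrank (AdjoinRoot μ) V with hm
  set n := finrank F V with hn
  set d := μ.natDegree with hd
  have hq : 1 < Nat.card F := Finite.one_lt_card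
  rw [hQ, ← pow_mul] at h2
  have h3 : d * m = n := Nat.pow_right_injective hq h2
  refine h1.trans ?_
  rw [hQ, ← pow_mul]
  apply Nat.pow_le_pow_right (by omega)
  -- `d * (m (m - 1) / 2) ≤ (n - 1) (n - 2) / 2`
  rw [Nat.le_div_iff_mul_le (by norm_num)]
  have h4 : m * (m - 1) / 2 * 2 ≤ m * (m - 1) := Nat.div_mul_le_self _ _
  calc d * (m * (m - 1) / 2) * 2 = d * (m * (m - 1) / 2 * 2) := by ring
    _ ≤ d * (m * (m - 1)) := Nat.mul_le_mul_left _ h4
    _ ≤ (n - 1) * (n - 2) := by
      rw [← h3]
      rcases Nat.eq_zero_or_pos m with h0 | h0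
      · rw [h0]; simp
      · obtain ⟨x, hx⟩ : ∃ x, m = x + 1 := ⟨m - 1, by omega⟩
        obtain ⟨y, hy⟩ : ∃ y, d = y + 2 := ⟨d - 2, by omega⟩
        rw [hx, hy]
        have e1 : (y + 2) * (x + 1) - 1 = y * x + 2 * x + y + 1 := by
          have : (y + 2) * (x + 1) = y * x + 2 * x + y + 1 + 1 := by ring
          omega
        have e2 : (y + 2) * (x + 1) - 2 = y * x + 2 * x + y := by
          have : (y + 2) * (x + 1) = y * x + 2 * x + y + 2 := by ring
          omega
        rw [e1, e2, Nat.add_sub_cancel]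
        nlinarith [Nat.zero_le (y * x), Nat.zero_le x, Nat.zero_le y, Nat.zero_le (x * x), Nat.zero_le (y * y),
          Nat.zero_le (y * x * x), Nat.zero_le (y * x * (y * x))]

/-- the decomposable case -/
theorem split {p : ℕ} [hp : Fact p.Prime] (hP : IsPGroup p P) (hpF : p ∣ Nat.card F)
    (ρ : P →* Module.End F V) (hρ : Function.Injective ρ) (V₁ V₂ : Submodule F V) (h1 : V₁ ≠ ⊥) (h2 : V₂ ≠ ⊥)
    (hinf : V₁ ⊓ V₂ = ⊥) (hsup : V₁ ⊔ V₂ = ⊤) (i1 : ∀ y, ∀ v ∈ V₁, ρ y v ∈ V₁) (i2 : ∀ y, ∀ v ∈ V₂, ρ y v ∈ V₂) :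
    Nat.card P ≤ Nat.card F ^ ((finrank F V - 1) * (finrank F V - 2) / 2) := by
  have hfV : Finite V := Module.finite_of_finite F
  -- restriction to `V₁`
  let ρ₁ : P →* Module.End F V₁ :=
    { toFun := fun y => (ρ y).restrict (i1 y)
      map_one' := by
        refine LinearMap.ext fun v => Subtype.ext ?_
        show ρ 1 (v : V) = v
        rw [map_one]; rfl
      map_mul' := fun x y => by
        refine LinearMap.ext fun v => Subtype.ext ?_
        show ρ (x * y) (v : V) = ρ x (ρ y (v : V))
        rw [map_mul]; rfl }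
  let u := ρ₁.toHomUnits
  -- the image
  have hfr : Finite u.range := Finite.of_surjective u.rangeRestrict u.rangeRestrict_surjective
  have hr : IsPGroup p u.range := hP.of_surjective u.rangeRestrict u.rangeRestrict_surjective
  have c1 := card_le_gl (K := F) (V := V₁) hr hpF ((Units.coeHom _).comp u.range.subtype)
    (fun x y hxy => Subtype.ext (Units.ext hxy))
  -- the kernel
  let ρ₂ : u.ker →* Module.End F V₂ :=
    { toFun := fun y => (ρ (y : P)).restrict (i2 y)
      map_one' := by
        refine LinearMap.ext fun v => Subtype.ext ?_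
        show ρ 1 (v : V) = v
        rw [map_one]; rfl
      map_mul' := fun x y => by
        refine LinearMap.ext fun v => Subtype.ext ?_
        show ρ ((x : P) * (y : P)) (v : V) = ρ x (ρ y (v : V))
        rw [map_mul]; rfl }
  have hρ₂ : Function.Injective ρ₂ := by
    rw [injective_iff_map_eq_one]
    rintro ⟨y, hy⟩ h0
    apply Subtype.ext
    apply hρ
    have h3 : ∀ v ∈ V₁, ρ y v = v := by
      intro v hv
      have h4 : ρ₁ y = 1 := congrArg Units.val (MonoidHom.mem_ker.1 hy)
      exact congrArg Subtype.val (LinearMap.congr_fun h4 ⟨v, hv⟩)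
    have h5 : ∀ v ∈ V₂, ρ y v = v := by
      intro v hv
      exact congrArg Subtype.val (LinearMap.congr_fun h0 ⟨v, hv⟩)
    show ρ y = ρ 1
    rw [map_one]
    refine LinearMap.ext fun v => ?_
    have hv : v ∈ V₁ ⊔ V₂ := hsup ▸ Submodule.mem_top
    obtain ⟨a, ha, b, hb, rfl⟩ := Submodule.mem_sup.1 hv
    rw [map_add, h3 a ha, h5 b hb]
    rfl
  have c2 := card_le_gl (K := F) (V := V₂) (hP.to_subgroup u.ker) hpF ρ₂ hρ₂
  have c3 : Nat.card P = Nat.card u.ker * Nat.card u.range := by
    rw [← Subgroup.card_mul_index u.ker, Subgroup.index_ker]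
  have c4 := Submodule.finrank_sup_add_finrank_inf_eq V₁ V₂
  rw [hsup, hinf, finrank_bot, add_zero, finrank_top] at c4
  have d1 : 1 ≤ finrank F V₁ := Nat.pos_of_ne_zero fun h => h1 (Submodule.finrank_eq_zero.1 h)
  have d2 : 1 ≤ finrank F V₂ := Nat.pos_of_ne_zero fun h => h2 (Submodule.finrank_eq_zero.1 h)
  rw [c3]
  refine (Nat.mul_le_mul c2 c1).trans ?_
  rw [← pow_add]
  apply Nat.pow_le_pow_right Nat.card_pos
  rw [add_comm]
  exact tri_le c4.symm d1 d2

/-- **`p`-groups commuting with a non-scalar semisimple map.** -/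
theorem semi {p : ℕ} [hp : Fact p.Prime] (hP : IsPGroup p P) (hpF : p ∣ Nat.card F)
    (ρ : P →* Module.End F V) (hρ : Function.Injective ρ) (f : Module.End F V) (hf : ∀ y, ρ y * f = f * ρ y)
    {t : ℕ} (ht : (t : F) ≠ 0) {c : F} (hc : c ≠ 0) (hft : f ^ t = algebraMap F _ c)
    (hns : ∀ c : F, f ≠ algebraMap F _ c) :
    Nat.card P ≤ Nat.card F ^ ((finrank F V - 1) * (finrank F V - 2) / 2) := by
  by_cases hirr : Irreducible (minpoly F f)
  · exact homog hP hpF ρ hρ f hf hirr hns
  · have hint : IsIntegral F f := Algebra.IsIntegral.isIntegral f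
    have hμ0 : minpoly F f ≠ 0 := minpoly.ne_zero hint
    have hnt : Nontrivial (Module.End F V) := by
      by_contra h
      rw [not_nontrivial_iff_subsingleton] at h
      exact hns 0 (Subsingleton.elim _ _)
    have hnu : ¬ IsUnit (minpoly F f) := minpoly.not_isUnit F f
    have hdvd : minpoly F f ∣ X ^ t - C c := by
      apply minpoly.dvd
      rw [map_sub, map_pow, aeval_X, aeval_C, hft, sub_self]
    have hsq : Squarefree (minpoly F f) := by
      refine Squarefree.squarefree_of_dvd hdvd ?_
      apply Polynomial.Separable.squarefree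
      exact Polynomial.separable_X_pow_sub_C c ht hc
    rw [irreducible_iff] at hirr
    push Not at hirr
    obtain ⟨g, h, hgh, hg, hh⟩ := hirr hnu
    rw [hgh] at hsq
    have hcop : IsCoprime g h := (IsRelPrime.of_squarefree_mul hsq).isCoprime
    have hz : aeval f (g * h) = 0 := by rw [← hgh]; exact minpoly.aeval F f
    have hg0 : g ≠ 0 := by rintro rfl; rw [zero_mul] at hgh; exact hμ0 hgh
    have hh0 : h ≠ 0 := by rintro rfl; rw [mul_zero] at hgh; exact hμ0 hgh
    -- a factor whose value is zero makes the other a unit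
    have key : ∀ a b : F[X], minpoly F f = a * b → b ≠ 0 → aeval f b = 0 → IsUnit a := by
      intro a b hab hb0 hb
      have h1 : a * b ∣ 1 * b := by
        rw [← hab, one_mul]
        exact minpoly.dvd F f hb
      exact isUnit_of_dvd_one ((mul_dvd_mul_iff_right hb0).1 h1)
    have hcm : ∀ (a : F[X]) (y : P), Commute (ρ y) (aeval f a) := by
      intro a y
      rw [Polynomial.aeval_eq_sum_range]
      exact Commute.sum_right _ _ _ fun i _ => ((show Commute (ρ y) f from hf y).pow_right i).smul_right _
    have hinv : ∀ (a : F[X]) (y : P), ∀ v ∈ LinearMap.ker (aeval f a), ρ y v ∈ LinearMap.ker (aeval f a) := by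
      intro a y v hv
      rw [LinearMap.mem_ker] at hv ⊢
      rw [← Module.End.mul_apply, ← (hcm a y).eq, Module.End.mul_apply, hv, map_zero]
    have hbot : ∀ a b : F[X], minpoly F f = a * b → b ≠ 0 → ¬ IsUnit a → LinearMap.ker (aeval f a) ≠ ⊥ := by
      intro a b hab hb0 ha h0
      apply ha
      refine key a b hab hb0 ?_
      refine LinearMap.ext fun v => ?_
      have h1 : aeval f a (aeval f b v) = 0 := by
        rw [← Module.End.mul_apply, ← map_mul, ← hab, minpoly.aeval]
        rfl
      have h2 := LinearMap.ker_eq_bot.1 h0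
      exact h2 (by rw [h1]; exact (map_zero _).symm)
    refine split hP hpF ρ hρ (LinearMap.ker (aeval f g)) (LinearMap.ker (aeval f h)) (hbot g h hgh hh0 hg)
      (hbot h g (by rw [hgh, mul_comm]) hg0 hh) ?_ ?_ (hinv g) (hinv h)
    · exact (Polynomial.disjoint_ker_aeval_of_isCoprime f hcop).eq_bot
    · rw [Polynomial.sup_ker_aeval_eq_ker_aeval_mul_of_coprime f hcop, hz]
      exact LinearMap.ker_zero

end Homog

section Fx

open Subgroup Cfsg.Agent.H160.PD
open Cfsg.Agent.ClassicalGeometry.AutPSL.Root
open Cfsg.Agent.ClassicalGeometry.AutPSL.Auto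
open Cfsg.Agent.H999.RowPSL (pow_scalar)

variable {F : Type*} [Field F] [Fintype F] {n : ℕ}

theorem toLin_scalar (c : F) : toLin' (scalar (Fin n) c) = algebraMap F (Module.End F (Fin n → F)) c := by
  refine LinearMap.ext fun v => ?_
  rw [toLin'_apply, Module.algebraMap_end_apply]
  funext i
  simp [scalar_apply, mulVec_diagonal]

/-- the `p`-part of the fixed points of linear automorphisms of prime order -/
theorem v_fx_le (hn : 2 ≤ n) {p f : ℕ} (hp : p.Prime) (hf : 1 ≤ f) (hF : Nat.card F = p ^ f) {A : GL (Fin n) F}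
    (ho : (orderOf (lift (cj A))).Prime) (hop : orderOf (lift (cj A)) ≠ p) :
    v p (Fx (lift (cj A))) ≤ f * ((n - 1) * (n - 2) / 2) := by
  have hpF := Fact.mk hp
  refine (v_fx_lift_le (cj A) p).trans ?_
  obtain ⟨c, hc0, hc⟩ := pow_scalar hn (pow_orderOf_eq_one (lift (cj A)))
  obtain ⟨P⟩ : Nonempty (Sylow p (Fx (cj A))) := inferInstance
  have hPc : Nat.card P = p ^ v p (Fx (cj A)) := P.card_eq_multiplicity
  let ρ : P →* Module.End F (Fin n → F) := act.comp ((Fx (cj A)).subtype.comp (P : Subgroup (Fx (cj A))).subtype)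
  have hρ : Function.Injective ρ :=
    act_injective.comp (Subtype.val_injective.comp Subtype.val_injective)
  have hpd : p ∣ Nat.card F := by rw [hF]; exact dvd_pow_self _ (by omega)
  have hchar : CharP F p := by
    have hF' : Fintype.card F = p ^ f := by rw [← Nat.card_eq_fintype_card, hF]
    exact charP_of_card_eq_prime_pow hF'
  have h1 := semi P.isPGroup' hpd ρ hρ (toLin' (A : Matrix (Fin n) (Fin n) F)) (fun y => by
      have h2 := mem_fx_cj (y : Fx (cj A)).2
      show toLin' ((y : Fx (cj A)) : Matrix.SpecialLinearGroup (Fin n) F).1 ∘ₗ toLin' (A : Matrix (Fin n) (Fin n) F) =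
        toLin' (A : Matrix (Fin n) (Fin n) F) ∘ₗ toLin' ((y : Fx (cj A)) : Matrix.SpecialLinearGroup (Fin n) F).1
      rw [← toLin'_mul, ← toLin'_mul, h2])
    (t := orderOf (lift (cj A))) (by
      intro h2
      rw [CharP.cast_eq_zero_iff F p] at h2
      exact hop ((Nat.prime_dvd_prime_iff_eq hp ho).1 h2).symm) hc0 (by
      rw [← toLin'_pow, hc, toLin_scalar]) (fun d hd => by
      rw [← toLin_scalar] at hd
      exact not_scalar ho (toLin'.injective hd))
  rw [finrank_fintype_fun_eq_card, Fintype.card_fin, hPc, hF, ← pow_mul] at h1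
  exact (Nat.pow_le_pow_iff_right hp.one_lt).1 h1

end Fx

end Cfsg.Agent.H889.PDL
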