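import Cfsg.Agent.H889.PDL.Lin

/-!
# S4246, row `PSL_n(q)` (helper889): the faithful submodules, the consequences for `PSL_n(q)`
-/

set_option autoImplicit false
set_option linter.unusedSectionVars false

namespace Cfsg.Agent.H889.PDL

open Matrix Module Subgroup Cfsg.Agent.H160.PD
open Cfsg.Agent.ClassicalGeometry.AutPSL.Root
open Cfsg.Agent.ClassicalGeometry.AutPSL.Auto
open Cfsg.Agent.H999.RowPSL (ker_pr Prim finrank_fixed irred)
open Cfsg.Agent.LieExceptional.SingerCentralizer

section

variable {F : Type*} [Field F] [Fintype F] {n : ℕ} {g : Matrix.SpecialLinearGroup (Fin n) F} {r : ℕ}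

theorem act_mul (a b : Matrix.SpecialLinearGroup (Fin n) F) (v : Fin n → F) : act (a * b) v = act a (act b v) := by
  rw [map_mul]; rfl

theorem act_inv_act (a : Matrix.SpecialLinearGroup (Fin n) F) (v : Fin n → F) : act a⁻¹ (act a v) = v := by
  rw [← act_mul, inv_mul_cancel, map_one]; rfl

theorem sit_top (ho : orderOf g = r) (h : Prim (Nat.card F) r n) : Sit g (⊤ : Submodule F (Fin n → F)) r n where
  ord := ho
  prim := h
  inv := fun _ _ _ _ => Submodule.mem_top
  faith := fun y _ hy => act_injective (by
    rw [map_one]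
    exact LinearMap.ext fun v => hy v Submodule.mem_top)
  dim := by rw [finrank_top, finrank_fintype_fun_eq_card, Fintype.card_fin]

theorem pow_sub_mem (k : ℕ) (u : Fin n → F) : act (g ^ k) u - u ∈ LinearMap.range (act g - 1) := by
  induction k generalizing u with
  | zero =>
    rw [pow_zero, map_one]
    show u - u ∈ _
    rw [sub_self]
    exact zero_mem _
  | succ k ih =>
    rw [pow_succ, act_mul]
    have h1 : act (g ^ k) (act g u) - u = (act (g ^ k) (act g u) - act g u) + (act g u - u) := by abel
    rw [h1]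
    exact add_mem (ih _) ⟨u, rfl⟩

theorem exists_pow_of_mem {y : Matrix.SpecialLinearGroup (Fin n) F}
    (hy : y ∈ normalizer ((zpowers g : Subgroup _) : Set (Matrix.SpecialLinearGroup (Fin n) F))) :
    ∃ k : ℕ, y * g * y⁻¹ = g ^ k := by
  have h1 := (mem_normalizer_iff.1 hy g).1 (mem_zpowers g)
  have h2 := mem_powers_iff_mem_zpowers.2 h1
  obtain ⟨k, hk⟩ := h2
  exact ⟨k, hk.symm⟩

theorem act_pow_order (ho : orderOf g = r) : (act g) ^ r = 1 := by
  rw [← map_pow, orderOf_dvd_iff_pow_eq_one.1 (dvd_of_eq ho), map_one]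

/-- the fixed line and its complement -/
theorem disj (hn : 3 ≤ n) (ho : orderOf g = r) (h : Prim (Nat.card F) r (n - 1)) :
    finrank F (LinearMap.ker (act g - 1)) = 1 ∧ finrank F (LinearMap.range (act g - 1)) = n - 1 ∧
      LinearMap.range (act g - 1) ⊓ LinearMap.ker (act g - 1) = ⊥ := by
  have hfr : Fact r.Prime := ⟨h.pr⟩
  have hgr : g ^ r = 1 := orderOf_dvd_iff_pow_eq_one.1 (dvd_of_eq ho)
  have h1 : finrank F (LinearMap.ker (act g - 1)) = 1 := by
    refine finrank_fixed hn h (z := g.1) ?_ ?_
    · have h2 := congrArg Subtype.val hgr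
      rwa [Matrix.SpecialLinearGroup.coe_pow] at h2
    · intro h2
      have h3 : g = 1 := Subtype.ext h2
      rw [h3, orderOf_one] at ho
      exact h.pr.one_lt.ne ho
  have h2 := LinearMap.finrank_range_add_finrank_ker (act g - 1 : Module.End F (Fin n → F))
  rw [finrank_fintype_fun_eq_card, Fintype.card_fin, h1] at h2
  have h3 : finrank F (LinearMap.range (act g - 1)) = n - 1 := by omega
  refine ⟨h1, h3, ?_⟩
  have h4 := card_modEq_fixed (F := F) (act g) (act_pow_order ho) (LinearMap.range (act g - 1)) (fun w hw => by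
    obtain ⟨u, rfl⟩ := hw
    exact ⟨act g u, by
      show act g (act g u) - act g u = act g (act g u - u)
      rw [map_sub]⟩)
  rw [h3] at h4
  have h5 : finrank F ↥(LinearMap.range (act g - 1) ⊓ LinearMap.ker (act g - 1)) ≤ 1 := by
    rw [← h1]
    exact Submodule.finrank_mono inf_le_right
  have h6 : Nat.card F ^ (n - 1) ≡ 1 [MOD r] :=
    ((Nat.modEq_iff_dvd' (Nat.one_le_pow _ _ Nat.card_pos)).2 h.dvd).symm
  rcases Nat.eq_zero_or_pos (finrank F ↥(LinearMap.range (act g - 1) ⊓ LinearMap.ker (act g - 1))) with h7 | h7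
  · exact Submodule.finrank_eq_zero.1 h7
  · exfalso
    have h8 : finrank F ↥(LinearMap.range (act g - 1) ⊓ LinearMap.ker (act g - 1)) = 1 := by omega
    rw [h8] at h4
    have h9 : 1 ≡ Nat.card F ^ 1 [MOD r] := h6.symm.trans h4
    exact h.ndvd 1 one_pos (by omega) ((Nat.modEq_iff_dvd' (Nat.one_le_pow _ _ Nat.card_pos)).1 h9)

theorem sit_range (hn : 3 ≤ n) (ho : orderOf g = r) (h : Prim (Nat.card F) r (n - 1)) :
    Sit g (LinearMap.range (act g - 1)) r (n - 1) where
  ord := ho
  prim := h
  inv := fun y hy w hw => by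
    obtain ⟨u, rfl⟩ := hw
    obtain ⟨k, hk⟩ := exists_pow_of_mem hy
    have h1 : act y ((act g - 1 : Module.End F (Fin n → F)) u) = act (g ^ k) (act y u) - act y u := by
      show act y (act g u - u) = _
      rw [map_sub, ← act_mul, ← act_mul, ← hk]
      congr 2
      rw [inv_mul_cancel_right]
    rw [h1]
    exact pow_sub_mem k _
  faith := fun y hy hyW => by
    obtain ⟨h1, h2, h3⟩ := disj hn ho h
    set W := LinearMap.range (act g - 1) with hW
    set U := LinearMap.ker (act g - 1) with hU
    have hWc : W ≤ W.comap (act y) := fun w hw => by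
      rw [Submodule.mem_comap, hyW w hw]
      exact hw
    have hdet := LinearMap.det_eq_det_mul_det W (act y) hWc
    have hd1 : LinearMap.det (act y) = 1 := by
      show LinearMap.det (toLin' y.1) = 1
      rw [LinearMap.det_toLin', y.2]
    have hd2 : LinearMap.det ((act y).restrict hWc) = 1 := by
      have h4 : (act y).restrict hWc = LinearMap.id := by
        ext ⟨w, hw⟩ : 1
        exact Subtype.ext (hyW w hw)
      rw [h4, LinearMap.det_id]
    rw [hd1, hd2, one_mul] at hdet
    -- the quotient is a line
    have hq : finrank F ((Fin n → F) ⧸ W) = 1 := by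
      have h4 := Submodule.finrank_quotient_add_finrank W
      rw [h2, finrank_fintype_fun_eq_card, Fintype.card_fin] at h4
      omega
    obtain ⟨ν, hν⟩ : ∃ ν : F, W.mapQ W (act y) hWc = ν • LinearMap.id := by
      obtain ⟨e, he0, he⟩ := finrank_eq_one_iff'.1 hq
      obtain ⟨ν, hν⟩ := he (W.mapQ W (act y) hWc e)
      refine ⟨ν, LinearMap.ext fun w => ?_⟩
      obtain ⟨c, rfl⟩ := he w
      rw [map_smul, ← hν, LinearMap.smul_apply, LinearMap.id_apply, smul_comm]
    rw [hν, LinearMap.det_smul, hq, pow_one, LinearMap.det_id, mul_one] at hdet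
    rw [← hdet, one_smul] at hν
    have hsub : ∀ v, act y v - v ∈ W := by
      intro v
      rw [← Submodule.Quotient.mk_eq_zero, Submodule.Quotient.mk_sub, sub_eq_zero]
      have h4 := LinearMap.congr_fun hν (Submodule.Quotient.mk v)
      rwa [LinearMap.id_apply] at h4
    -- `y` normalises the line
    have hyU : ∀ u ∈ U, act y u = u := by
      intro u hu
      have h4 : act y u ∈ U := by
        obtain ⟨k, hk⟩ := exists_pow_of_mem (inv_mem hy)
        have hgu : act g u = u := by
          have h5 : (act g - 1 : Module.End F (Fin n → F)) u = 0 := hu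
          exact sub_eq_zero.1 h5
        have hgk : act (g ^ k) u = u := by
          clear hk
          induction k with
          | zero => rw [pow_zero, map_one]; rfl
          | succ k ih => rw [pow_succ, act_mul, hgu, ih]
        show act g (act y u) - act y u = 0
        rw [sub_eq_zero, ← act_mul]
        have h5 : g * y = y * g ^ k := by
          rw [← hk, inv_inv]
          group
        rw [h5, act_mul, hgk]
      have h5 : act y u - u ∈ W ⊓ U := ⟨hsub u, sub_mem h4 hu⟩
      rw [h3, Submodule.mem_bot, sub_eq_zero] at h5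
      exact h5
    have htop : W ⊔ U = ⊤ := by
      apply Submodule.eq_top_of_finrank_eq
      have h4 := Submodule.finrank_sup_add_finrank_inf_eq W U
      rw [h3, finrank_bot, add_zero, h1, h2] at h4
      rw [h4, finrank_fintype_fun_eq_card, Fintype.card_fin]
      omega
    apply act_injective
    rw [map_one]
    refine LinearMap.ext fun v => ?_
    have hv : v ∈ W ⊔ U := htop ▸ Submodule.mem_top
    obtain ⟨w, hw, u, hu, rfl⟩ := Submodule.mem_sup.1 hv
    rw [map_add, hyW w hw, hyU u hu]
    rfl
  dim := (disj hn ho h).2.1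

end

end Cfsg.Agent.H889.PDL
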